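import Mathlib
import Cfsg.Agent.Lib.J4Schur53.Split
import Cfsg.Prelude.Def_KGroupFacts

/-!
Central extensions with kernel of prime order: lifts of elements, and the reduction of a trivial
multiplier to them.
-/

set_option autoImplicit false

namespace Cfsg.Agent.Lib.ThMult97

open Cfsg Cfsg.Agent.Lib

/-- a surjection with central kernel of prime order `p` -/
structure PExt {Γ G : Type*} [Group Γ] [Group G] (σ : Γ →* G) (p : ℕ) : Prop where
  prime : p.Prime
  surj : Function.Surjective σ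
  central : σ.ker ≤ Subgroup.center Γ
  card : Nat.card σ.ker = p

namespace PExt

variable {Γ G : Type*} [Group Γ] [Group G] {σ : Γ →* G} {p : ℕ}

theorem pow_p (h : PExt σ p) {z : Γ} (hz : σ z = 1) : z ^ p = 1 := by
  have := pow_card_eq_one' (G := σ.ker) (x := ⟨z, hz⟩)
  rw [h.card] at this
  simpa using congrArg Subtype.val this

theorem comm (h : PExt σ p) {z : Γ} (hz : σ z = 1) (x : Γ) : x * z = z * x :=
  Subgroup.mem_center_iff.1 (h.central hz) x

theorem exists_eq_mul (h : PExt σ p) {x y : Γ} (he : σ x = σ y) :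
    ∃ z, σ z = 1 ∧ x = y * z ∧ z ^ p = 1 := by
  refine ⟨y⁻¹ * x, ?_, by group, ?_⟩
  · rw [map_mul, map_inv, he, inv_mul_cancel]
  · exact h.pow_p (by rw [map_mul, map_inv, he, inv_mul_cancel])

theorem eq_one_of_coprime (h : PExt σ p) {z : Γ} (hz : σ z = 1) {n : ℕ} (hn : z ^ n = 1)
    (hc : Nat.Coprime n p) : z = 1 :=
  orderOf_eq_one_iff.1 (Nat.dvd_one.1
    (hc ▸ Nat.dvd_gcd (orderOf_dvd_of_pow_eq_one hn) (orderOf_dvd_of_pow_eq_one (h.pow_p hz))))

theorem mul_pow_ker (h : PExt σ p) (y : Γ) {z : Γ} (hz : σ z = 1) (n : ℕ) :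
    (y * z) ^ n = y ^ n * z ^ n :=
  (show Commute y z from h.comm hz y).mul_pow n

/-- lifts with a power equation prime to `p` are unique -/
theorem eq_of_pow (h : PExt σ p) {x y : Γ} (he : σ x = σ y) {n : ℕ} (hc : Nat.Coprime n p)
    (hp : x ^ n = y ^ n) : x = y := by
  obtain ⟨z, hz, rfl, -⟩ := h.exists_eq_mul he
  rw [h.mul_pow_ker y hz, mul_eq_left] at hp
  rw [h.eq_one_of_coprime hz hp hc, mul_one]

/-- powers divisible by `p` depend only on the image -/
theorem pow_eq (h : PExt σ p) {x y : Γ} (he : σ x = σ y) {n : ℕ} (hd : p ∣ n) : x ^ n = y ^ n := by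
  obtain ⟨z, hz, rfl, hzp⟩ := h.exists_eq_mul he
  obtain ⟨k, rfl⟩ := hd
  rw [h.mul_pow_ker y hz, pow_mul z, hzp, one_pow, mul_one]

/-- an element of order prime to `p` has a lift of the same order -/
theorem exists_lift (h : PExt σ p) {g : G} {n : ℕ} (hg : g ^ n = 1) (hc : Nat.Coprime n p) :
    ∃ x, σ x = g ∧ x ^ n = 1 := by
  obtain ⟨x, rfl⟩ := h.surj g
  have hz : σ (x ^ n) = 1 := by rw [map_pow, hg]
  obtain ⟨k, hk1, hk0⟩ := Nat.chineseRemainder hc 1 0
  refine ⟨x ^ k, ?_, ?_⟩
  · rw [map_pow, pow_eq_pow_mod k hg, hk1, ← pow_eq_pow_mod 1 hg, pow_one]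
  · obtain ⟨j, rfl⟩ := Nat.modEq_zero_iff_dvd.1 hk0
    rw [← pow_mul, mul_comm, pow_mul, pow_mul, h.pow_p hz, one_pow]

/-- the commutator of two lifts -/
theorem comm_ker (h : PExt σ p) {x y : Γ} (he : σ x * σ y = σ y * σ x) :
    ∃ z, σ z = 1 ∧ x * y = y * x * z ∧ z ^ p = 1 :=
  h.exists_eq_mul (by rw [map_mul, map_mul, he])

theorem pow_mul_comm_ker {x y z : Γ} (h : PExt σ p) (hz : σ z = 1) (he : x * y = y * x * z) :
    ∀ n : ℕ, x ^ n * y = y * x ^ n * z ^ n
  | 0 => by simp
  | n + 1 => by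
    rw [pow_succ' x, mul_assoc, pow_mul_comm_ker h hz he n, ← mul_assoc, ← mul_assoc, he,
      pow_succ' z]
    have := h.comm hz
    simp only [mul_assoc]
    rw [← mul_assoc z (x ^ n), ← this (x ^ n), mul_assoc]

/-- lifts of commuting elements commute when a power prime to `p` of one of them is central -/
theorem commute_of_coprime (h : PExt σ p) {x y : Γ} (he : σ x * σ y = σ y * σ x) {n : ℕ}
    (hc : Nat.Coprime n p) (hn : Commute (x ^ n) y) : Commute x y := by
  obtain ⟨z, hz, hzy, -⟩ := h.comm_ker he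
  have h1 := h.pow_mul_comm_ker hz hzy n
  rw [hn.eq, left_eq_mul] at h1
  rw [Commute, SemiconjBy, hzy, h.eq_one_of_coprime hz h1 hc, mul_one]

end PExt

/-- the multiplier is trivial when no extension with kernel of prime order is a stem extension -/
theorem hasCyclicSchurMultiplier_one {G : Type} [Group G] [Finite G]
    (key : ∀ (p : ℕ) (Γ : Type) [Group Γ] [Finite Γ] (σ : Γ →* G),
      PExt σ p → σ.ker ⊓ commutator Γ = ⊥) :
    HasCyclicSchurMultiplier G 1 := by
  refine ⟨⟨G, inferInstance, inferInstance, MonoidHom.id G,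
    ⟨Function.surjective_id, fun z hz => ?_, fun z hz => ?_⟩, ?_⟩, ?_⟩
  · obtain rfl : z = 1 := hz
    exact one_mem _
  · obtain rfl : z = 1 := hz
    exact one_mem _
  · have : Subsingleton (MonoidHom.id G).ker :=
      ⟨fun a b => Subtype.ext ((MonoidHom.mem_ker.1 a.2 : (a : G) = 1).trans
        (MonoidHom.mem_ker.1 b.2 : (b : G) = 1).symm)⟩
    let : Unique (MonoidHom.id G).ker := uniqueOfSubsingleton 1
    exact ⟨MulEquiv.ofUnique⟩
  intro Γ _ _ σ hσ
  obtain ⟨hs, hc, hcomm⟩ := hσ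
  suffices hbot : σ.ker = ⊥ by
    refine ⟨1, fun z => ⟨1, ?_⟩⟩
    have hz : (z : Γ) ∈ σ.ker := z.2
    have hz : (z : Γ) = 1 := Subgroup.mem_bot.1 (hbot.le hz)
    exact Subtype.ext hz.symm
  by_contra hne
  obtain ⟨p, hp, N, hN, hidx⟩ : ∃ p, p.Prime ∧ ∃ N : Subgroup Γ, N ≤ σ.ker ∧
      Nat.card σ.ker = p * Nat.card N := by
    letI : CommGroup σ.ker :=
      { (inferInstance : Group σ.ker) with
        mul_comm := fun a b => Subtype.ext (Subgroup.mem_center_iff.1 (hc b.2) a) }
    haveI : Nontrivial σ.ker := (Subgroup.nontrivial_iff_ne_bot _).2 hne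
    obtain ⟨M, hM, -⟩ := (eq_top_or_exists_le_coatom (⊥ : Subgroup σ.ker)).resolve_left bot_ne_top
    haveI : IsSimpleGroup (σ.ker ⧸ M) := by
      haveI : Nontrivial (σ.ker ⧸ M) := QuotientGroup.nontrivial_iff.2 hM.1
      refine ⟨fun H _ => ?_⟩
      rcases (QuotientGroup.le_comap_mk' M H).eq_or_lt with h | h
      · exact Or.inl (Subgroup.comap_injective (QuotientGroup.mk'_surjective M)
          (h.symm.trans (by rw [MonoidHom.comap_bot, QuotientGroup.ker_mk'])))
      · exact Or.inr (Subgroup.comap_injective (QuotientGroup.mk'_surjective M)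
          ((hM.2 _ h).trans (Subgroup.comap_top _).symm))
    have hp := IsSimpleGroup.prime_card (α := σ.ker ⧸ M)
    refine ⟨_, hp, M.map σ.ker.subtype, Subgroup.map_subtype_le M, ?_⟩
    rw [Subgroup.card_map_of_injective σ.ker.subtype_injective]
    exact Subgroup.card_eq_card_quotient_mul_card_subgroup M
  have hNn : N.Normal := ⟨fun n hn g => by
    rwa [Subgroup.mem_center_iff.1 (hc (hN hn)) g, mul_inv_cancel_right]⟩
  let τ : Γ ⧸ N →* G := QuotientGroup.lift N σ hN
  have hm : Function.Surjective (QuotientGroup.mk' N) := QuotientGroup.mk'_surjective N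
  have hker : τ.ker = σ.ker.map (QuotientGroup.mk' N) := QuotientGroup.ker_lift _ _ _
  have hcard : Nat.card τ.ker = p := by
    have h1 : Nat.card σ.ker = Nat.card τ.ker * Nat.card N := by
      let f : σ.ker →* τ.ker := ((QuotientGroup.mk' N).comp σ.ker.subtype).codRestrict _ fun x => by
        rw [hker]; exact ⟨x, x.2, rfl⟩
      have hf : Function.Surjective f := by
        rintro ⟨y, hy⟩
        rw [hker] at hy
        obtain ⟨x, hx, rfl⟩ := hy
        exact ⟨⟨x, hx⟩, rfl⟩
      have hk : f.ker = N.subgroupOf σ.ker := by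
        ext x
        simp [f, MonoidHom.mem_ker, Subgroup.mem_subgroupOf, Subtype.ext_iff,
          QuotientGroup.eq_one_iff]
      rw [Subgroup.card_eq_card_quotient_mul_card_subgroup f.ker,
        Nat.card_congr (QuotientGroup.quotientKerEquivOfSurjective f hf).toEquiv, hk,
        Nat.card_congr (Subgroup.subgroupOfEquivOfLe hN).toEquiv]
    have hpos : 0 < Nat.card N := Nat.card_pos
    nlinarith
  have hstem : τ.ker ≤ commutator (Γ ⧸ N) := by
    rw [hker, commutator_def, ← Subgroup.map_top_of_surjective _ hm, ← Subgroup.map_commutator]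
    exact Subgroup.map_mono hcomm
  have hext : PExt τ p := by
    refine ⟨hp, fun g => (hs g).elim fun x e => ⟨QuotientGroup.mk' N x, e⟩, ?_, hcard⟩
    intro z hz
    obtain ⟨x, rfl⟩ := hm z
    refine Subgroup.mem_center_iff.2 fun w => ?_
    obtain ⟨y, rfl⟩ := hm w
    rw [← map_mul, ← map_mul, Subgroup.mem_center_iff.1 (hc (show x ∈ σ.ker from hz)) y]
  have := key p (Γ ⧸ N) τ hext
  rw [inf_eq_left.2 hstem] at this
  rw [this, Subgroup.card_bot] at hcard
  exact hp.ne_one hcard.symm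

end Cfsg.Agent.Lib.ThMult97
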