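import Cfsg.Agent.Lib.ThMult97.KLift
import Cfsg.Agent.Lib.Th23.Upper

/-!
A lift of `a` commutes with every lift of its centraliser, so that conjugation rules between
conjugates of `a` lift exactly.
-/

set_option autoImplicit false

namespace Cfsg.Agent.Lib.ThMult97

open Cfsg Cfsg.Spor Cfsg.Agent.Lib
open Cfsg.Agent.Lib.ThK83 (Kbar rep)

/-- the centraliser of `a` is generated by seven of the eight generators -/
def CentA : Prop := Subgroup.centralizer ({gn .a} : Set Th) =
  Subgroup.closure {gn .a, gn .c, gn .d, gn .e, gn .s, gn .t, gn .u}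

variable {Γ : Type*} [Group Γ]

/-- lifts of `Kbar` and of `u` -/
structure Lifts (σ : Γ →* Th) (p : ℕ) (Φ : Kbar →* Γ) (U : Γ) : Prop where
  ext : PExt σ p
  comp : σ.comp Φ = kMap
  map_u : σ U = gn .u
  t_inv : U⁻¹ * Φ (rep.f 7) * U = (Φ (rep.f 7))⁻¹

theorem thMap_K : Th23.KMaps kMap (gn .a) (gn .b) (gn .c) (gn .d) (gn .e) (gn .s) (gn .t) :=
  ⟨kMap_f 0 (by decide), kMap_f 1 (by decide), kMap_f 2 (by decide), kMap_f 3 (by decide),
    kMap_f 4 (by decide), kMap_f 5 (by decide), kMap_f 7 (by decide)⟩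

theorem rels_th (idx : List ℕ) :
    Th23.RelsHold idx (gn .a) (gn .b) (gn .c) (gn .d) (gn .e) (gn .s) (gn .t) (gn .u) :=
  Th23.relsHold_th idx

theorem th_u_sq : gn .u * gn .u = gn .a * gn .c :=
  Th23.u_sq (rels_th [27]) (by simp)

theorem th_rule_a : gn .a * gn .u = gn .u * gn .a :=
  Th23.rule_a (rels_th [28]) (by simp)

theorem th_six : ∀ k < 6,
    kw (LyDC.nth [] Th23.sixTok k) * gn .u = gn .u * kw (LyDC.nth [] Th23.sixImg k) :=
  Th23.six_rules thMap_K (rels_th (List.range 37)) (by decide)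

theorem th_seventh : kw [0x4342341234543423121] * gn .u = gn .u * kw [0x434] :=
  Th23.seventh_of_rels thMap_K (rels_th Th23.upperIdx)

namespace Lifts

variable {σ : Γ →* Th} {p : ℕ} {Φ : Kbar →* Γ} {U : Γ} (L : Lifts σ p Φ U)
include L

theorem map_phi (k : Kbar) : σ (Φ k) = kMap k := by
  rw [← L.comp, MonoidHom.comp_apply]

theorem map_ev (w : List ℕ) : σ (Φ (rep.ev w)) = kw w := L.map_phi _

/-- the lift of `a` commutes with the lifts of the seven generators -/
theorem commute_a_K {w : List ℕ} (h : ThK83.tabs.same ThK83.base ([1] ++ w) (w ++ [1]) = true) :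
    Commute (Φ (rep.ev [1])) (Φ (rep.ev w)) := by
  have := congrArg Φ (ThK83.rep.eq_of_same ThK83.base_lt ThK83.baseInj h)
  rwa [ThK83.rep.ev_append, ThK83.rep.ev_append, map_mul, map_mul] at this

theorem map_A : σ (Φ (rep.ev [1])) = gn .a := by
  rw [L.map_ev, kw_eq]; rfl

/-- the lift of `a` commutes with the lift of `u` -/
theorem commute_a_u : Commute (Φ (rep.ev [1])) U := by
  set A := Φ (rep.ev [1]) with hA
  set S := Φ (rep.ev [6]) with hSdef
  have hσA : σ A = gn .a := L.map_A
  have hS : σ S = gn .s := by rw [hSdef, L.map_ev, kw_eq]; rfl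
  obtain ⟨z, hz, hAz, -⟩ := L.ext.comm_ker (x := A) (y := U) (by
    rw [hσA, L.map_u]; exact th_rule_a)
  have cz := L.ext.comm hz
  have hAS : A * S = S * A := (L.commute_a_K (w := [6]) (by decide +kernel)).eq
  have conjU : A * U = U * (A * z) := by rw [hAz, mul_assoc]
  -- `U ^ 2` lies over `a c`
  have h2 : z * z = 1 := by
    obtain ⟨y, hy, he, -⟩ := L.ext.exists_eq_mul
      (x := U * U) (y := Φ (rep.ev [0x31])) (by
        rw [map_mul, L.map_u, th_u_sq, L.map_ev, kw_eq]
        rw [ThK83.wordVal, show ThK83.decode [0x31] = [0, 2] by decide +kernel]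
        simp [ThK83.kVal])
    have hc : A * (U * U) = U * U * A := by
      rw [he, ← mul_assoc, (L.commute_a_K (w := [0x31]) (by decide +kernel)).eq, mul_assoc,
        L.ext.comm hy A, mul_assoc]
    have : A * (U * U) = U * U * A * (z * z) := by
      calc A * (U * U) = U * (A * z) * U := by rw [← mul_assoc, conjU]
        _ = U * (A * U) * z := by rw [mul_assoc U (A * z), mul_assoc A z, ← cz U]; group
        _ = _ := by rw [hAz]; group
    rw [hc, left_eq_mul] at this
    exact this
  -- `(U S) ^ 3` lies over `a c`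
  have h36 : (gn .a * gn .c) * ((gn .u * gn .s) ^ 3)⁻¹ = 1 := by
    have e := Th23.rel_get (rels_th [36]) (i := 36) (by simp) (r := _) rfl
    simpa only [map_mul, map_inv, map_pow, FreeGroup.lift_apply_of, Th23.thVal] using e
  have h3 : z * z * z = 1 := by
    obtain ⟨y, hy, he, -⟩ := L.ext.exists_eq_mul
      (x := (U * S) ^ 3) (y := Φ (rep.ev [0x31])) (by
        rw [map_pow, map_mul, L.map_u, hS, ← mul_inv_eq_one.1 h36, L.map_ev, kw_eq,
          ThK83.wordVal, show ThK83.decode [0x31] = [0, 2] by decide +kernel]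
        simp [ThK83.kVal])
    have hc : A * (U * S) ^ 3 = (U * S) ^ 3 * A := by
      rw [he, ← mul_assoc, (L.commute_a_K (w := [0x31]) (by decide +kernel)).eq, mul_assoc,
        L.ext.comm hy A, mul_assoc]
    have hus : A * (U * S) = U * S * A * z := by
      calc A * (U * S) = U * (A * z) * S := by rw [← mul_assoc, conjU]
        _ = U * (A * S) * z := by rw [mul_assoc U (A * z), mul_assoc A z, ← cz S]; group
        _ = _ := by rw [hAS]; group
    have e1 : ∀ (n : ℕ), A * (U * S) ^ n = (U * S) ^ n * A * z ^ n := fun n => by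
      induction n with
      | zero => simp
      | succ n ih =>
        rw [pow_succ (U * S), ← mul_assoc, ih, pow_succ' z]
        calc (U * S) ^ n * A * z ^ n * (U * S)
            = (U * S) ^ n * (A * (U * S)) * z ^ n := by
              rw [mul_assoc _ (z ^ n), ← L.ext.comm (show σ (z ^ n) = 1 by rw [map_pow, hz, one_pow]) (U * S)]
              group
          _ = _ := by rw [hus]; group
    have := e1 3
    rw [hc, left_eq_mul] at this
    rw [← this]; simp [pow_succ]
  have hz1 : z = 1 := by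
    rw [← h3, h2, one_mul]
  rw [Commute, SemiconjBy, hAz, hz1, mul_one]

variable (hCA : CentA)
include hCA

/-- lifts of commuting elements commute if one of them is conjugate to `a` -/
theorem commute_of_conj {x y : Γ} (hx : ∃ g, σ x = g⁻¹ * gn .a * g)
    (he : σ x * σ y = σ y * σ x) : Commute x y := by
  set A := Φ (rep.ev [1]) with hA
  have hσA : σ A = gn .a := L.map_A
  set S := (Subgroup.centralizer ({A} : Set Γ)).map σ with hSdef
  have mem : ∀ {x' : Th} {X : Γ}, σ X = x' → Commute A X → x' ∈ S := fun {x' X} e c =>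
    ⟨X, Subgroup.mem_centralizer_singleton_iff.2 c.eq.symm, e⟩
  have memK : ∀ {w : List ℕ} {x' : Th}, kw w = x' →
      ThK83.tabs.same ThK83.base ([1] ++ w) (w ++ [1]) = true → x' ∈ S := fun {w x'} e h =>
    mem ((L.map_ev w).trans e) (L.commute_a_K h)
  have hle : Subgroup.centralizer ({gn .a} : Set Th) ≤ S := by
    rw [hCA, Subgroup.closure_le]
    intro g hg
    simp only [Set.mem_insert_iff, Set.mem_singleton_iff] at hg
    rcases hg with rfl | rfl | rfl | rfl | rfl | rfl | rfl
    · exact memK (w := [1]) (by rw [kw_eq]; rfl) (by decide +kernel)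
    · exact memK (w := [3]) (by rw [kw_eq]; rfl) (by decide +kernel)
    · exact memK (w := [4]) (by rw [kw_eq]; rfl) (by decide +kernel)
    · exact memK (w := [5]) (by rw [kw_eq]; rfl) (by decide +kernel)
    · exact memK (w := [6]) (by rw [kw_eq]; rfl) (by decide +kernel)
    · exact memK (w := [8]) (by rw [kw_eq]; rfl) (by decide +kernel)
    · exact mem L.map_u L.commute_a_u
  obtain ⟨g, hg⟩ := hx
  obtain ⟨G', rfl⟩ := L.ext.surj g
  obtain ⟨z, hz, rfl, -⟩ := L.ext.exists_eq_mul (x := x) (y := G'⁻¹ * A * G') (by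
    rw [hg, map_mul, map_mul, map_inv, hσA])
  obtain ⟨Y, hY, hYe⟩ := hle (show σ (G' * y * G'⁻¹) ∈ _ from
    Subgroup.mem_centralizer_singleton_iff.2 (by
      rw [hg] at he
      calc σ (G' * y * G'⁻¹) * gn .a
          = σ G' * (σ y * ((σ G')⁻¹ * gn .a * σ G')) * (σ G')⁻¹ := by simp [mul_assoc]
        _ = σ G' * ((σ G')⁻¹ * gn .a * σ G' * σ y) * (σ G')⁻¹ := by rw [he]
        _ = gn .a * σ (G' * y * G'⁻¹) := by simp [mul_assoc]))
  obtain ⟨z', hz', e, -⟩ := L.ext.exists_eq_mul (x := G' * y * G'⁻¹) (y := Y) hYe.symm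
  have hc : Commute A (G' * y * G'⁻¹) := by
    rw [e]
    exact (Commute.mul_right (Subgroup.mem_centralizer_singleton_iff.1 hY).symm
      (L.ext.comm hz' A))
  have h1 : Commute (G'⁻¹ * A * G') y := by
    have := hc.map (MulAut.conj G'⁻¹).toMonoidHom
    simpa [mul_assoc] using this
  exact h1.mul_left (Commute.symm (L.ext.comm hz y))

/-- a conjugation rule lifts exactly -/
theorem rule_exact {h h' k k' : List ℕ} (hh : ∃ g, kw h = g⁻¹ * gn .a * g)
    (hk : ThK83.tabs.same ThK83.base (k' ++ k) [] = true)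
    (hk' : ThK83.tabs.same ThK83.base h' (k' ++ h ++ k) = true)
    (he : kw h * gn .u = gn .u * kw h') :
    Φ (rep.ev h) * U = U * Φ (rep.ev h') := by
  have e1 : kw k' = (kw k)⁻¹ := by
    have := kw_same hk
    rw [kw_append, kw_nil] at this
    exact eq_inv_of_mul_eq_one_left this
  have e2 : Φ (rep.ev k') = (Φ (rep.ev k))⁻¹ := by
    have := congrArg Φ (ThK83.rep.eq_of_same ThK83.base_lt ThK83.baseInj hk)
    rw [ThK83.rep.ev_append, ThK83.rep.ev_nil, map_mul, map_one] at this
    exact eq_inv_of_mul_eq_one_left this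
  have eh : Φ (rep.ev h') = (Φ (rep.ev k))⁻¹ * Φ (rep.ev h) * Φ (rep.ev k) := by
    have := congrArg Φ (ThK83.rep.eq_of_same ThK83.base_lt ThK83.baseInj hk')
    rwa [ThK83.rep.ev_append, ThK83.rep.ev_append, map_mul, map_mul, e2] at this
  have c := L.commute_of_conj hCA (x := Φ (rep.ev h)) (y := U * (Φ (rep.ev k))⁻¹)
    (by rwa [L.map_ev]) (by
      rw [map_mul, map_inv, L.map_u, L.map_ev, L.map_ev]
      rw [kw_same hk', kw_append, kw_append, e1] at he
      rw [← mul_assoc, he]; group)
  rw [eh]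
  calc Φ (rep.ev h) * U = Φ (rep.ev h) * (U * (Φ (rep.ev k))⁻¹) * Φ (rep.ev k) := by group
    _ = _ := by rw [c.eq]; group

end Lifts

end Cfsg.Agent.Lib.ThMult97
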