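import Cfsg.Agent.Lib.ThMult97.SLift
import Cfsg.Agent.Lib.ThK83.Kbar

/-!
The generators of groups 1-3 in the presented Thompson group, and the involutions among their products
as conjugates of `d`.
-/

set_option autoImplicit false

namespace Cfsg.Agent.Lib.ThMult97

open Cfsg Cfsg.Spor Cfsg.Agent.Lib

/-- a generator -/
noncomputable abbrev gn (x : Th.Gen) : Th := PresentedGroup.of x

/-- the map of `Kbar` onto the subgroup of the seven generators -/
noncomputable def kMap : ThK83.Kbar →* Th := (ThK83.exists_hom ThK83.kRel_th).choose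

theorem kMap_f : ∀ l < 9, kMap (ThK83.rep.f l) =
    ThK83.kVal (gn .a) (gn .b) (gn .c) (gn .d) (gn .e) (gn .s) (gn .t) l :=
  (ThK83.exists_hom ThK83.kRel_th).choose_spec.1

/-- the value of a word -/
noncomputable def kw (u : List ℕ) : Th := kMap (ThK83.rep.ev u)

theorem kw_eq (u : List ℕ) :
    kw u = ThK83.wordVal (gn .a) (gn .b) (gn .c) (gn .d) (gn .e) (gn .s) (gn .t) u :=
  ThK83.hom_ev kMap_f u

theorem kw_same {u v : List ℕ} (h : ThK83.tabs.same ThK83.base u v = true) : kw u = kw v := by
  rw [kw, kw, ThK83.rep.eq_of_same ThK83.base_lt ThK83.baseInj h]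

theorem kw_append (u v : List ℕ) : kw (u ++ v) = kw u * kw v := by
  rw [kw, ThK83.rep.ev_append, map_mul]; rfl

theorem kw_nil : kw [] = 1 := by rw [kw, ThK83.rep.ev_nil, map_one]

/-- `x` is conjugate to `d` -/
def ConjD (x : Th) : Prop := ∃ g, x = g⁻¹ * gn .d * g

theorem ConjD.conj {x : Th} (h : ConjD x) (g : Th) : ConjD (g⁻¹ * x * g) := by
  obtain ⟨k, rfl⟩ := h
  exact ⟨k * g, by group⟩

theorem kw_d : kw [4] = gn .d := by
  rw [kw_eq]; rfl

theorem conjD_of_word (x g g' : List ℕ) (h : ThK83.tabs.same ThK83.base (g' ++ g) [] = true)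
    (h' : ThK83.tabs.same ThK83.base x (g' ++ [4] ++ g) = true) : ConjD (kw x) := by
  refine ⟨kw g, ?_⟩
  have e := kw_same h
  rw [kw_append, kw_nil] at e
  rw [kw_same h', kw_append, kw_append, kw_d, eq_inv_of_mul_eq_one_left e]

theorem u_X_u : (gn .u)⁻¹ * kw [0x2312] * gn .u = kw [0x52312] := by
  have h : PresentedGroup.mk (coxRelators Th.edges ∪ {r | r ∈ Th.extra}) Th.extra[32] = 1 :=
    PresentedGroup.one_of_mem (Or.inr (List.getElem_mem (by decide)))
  have e : (gn .u)⁻¹ * ((gn .b)⁻¹ * (gn .a * gn .c) * gn .b)⁻¹ * gn .u *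
      ((gn .b)⁻¹ * (gn .a * gn .c) * gn .b) * (gn .e)⁻¹ = 1 := h
  have v1 : ThK83.decode [0x2312] = [1, 0, 2, 1] := by decide +kernel
  have v2 : ThK83.decode [0x52312] = [1, 0, 2, 1, 4] := by decide +kernel
  have hb : (gn .b)⁻¹ = gn .b := by
    refine inv_eq_of_mul_eq_one_right ?_
    rw [← pow_two]; exact kRel_th.bb
  have he : (gn .e)⁻¹ = gn .e := by
    refine inv_eq_of_mul_eq_one_right ?_
    rw [← pow_two]; exact kRel_th.ee
  have hX : ((gn .b)⁻¹ * (gn .a * gn .c) * gn .b)⁻¹ = (gn .b)⁻¹ * (gn .a * gn .c) * gn .b := by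
    have h4 : ThK83.tabs.same ThK83.base [0x2312, 0x2312] [] = true := by decide +kernel
    have := kw_same h4
    rw [show [0x2312, 0x2312] = [0x2312] ++ [0x2312] from rfl, kw_append, kw_nil] at this
    have e2 : kw [0x2312] = (gn .b)⁻¹ * (gn .a * gn .c) * gn .b := by
      rw [kw_eq, ThK83.wordVal, v1, hb]; simp [ThK83.kVal, mul_assoc]
    rw [← e2]
    exact inv_eq_of_mul_eq_one_right this
  rw [hX] at e
  rw [kw_eq, kw_eq, ThK83.wordVal, ThK83.wordVal, v1, v2]
  generalize hXd : (gn .b)⁻¹ * (gn .a * gn .c) * gn .b = X at e hX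
  have e1 : gn .b * (gn .a * (gn .c * gn .b)) = X := by rw [← hXd, hb]; simp [mul_assoc]
  have e2 : gn .b * (gn .a * (gn .c * (gn .b * gn .e))) = X * gn .e := by
    rw [← e1]; simp [mul_assoc]
  simp only [ThK83.kVal, List.map_cons, List.map_nil, List.prod_cons, List.prod_nil,
    List.getD_cons_zero, List.getD_cons_succ, mul_one, e1, e2]
  have e3 := mul_inv_eq_one.1 e
  rw [eq_mul_inv_of_mul_eq e3, hX]
  have h5 : ThK83.tabs.same ThK83.base [0x5, 0x2312] [0x52312] = true := by decide +kernel
  have := kw_same h5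
  rw [kw_eq, kw_eq, ThK83.wordVal, ThK83.wordVal, v2,
    show ThK83.decode [0x5, 0x2312] = [4, 1, 0, 2, 1] by decide +kernel] at this
  simpa only [ThK83.kVal, List.map_cons, List.map_nil, List.prod_cons, List.prod_nil,
    List.getD_cons_zero, List.getD_cons_succ, mul_one, e1, e2] using this

theorem conjD_X : ConjD (kw [0x2312]) := by
  have h : ConjD (kw [0x52312]) := conjD_of_word [0x52312] [0x43451234345423] [0x32454343215434]
    (by decide +kernel) (by decide +kernel)
  have := h.conj (gn .u)⁻¹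
  rwa [inv_inv, ← u_X_u, show gn .u * ((gn .u)⁻¹ * kw [0x2312] * gn .u) * (gn .u)⁻¹ = kw [0x2312]
    by group] at this

theorem conjD_of_wordX (x g g' : List ℕ) (h : ThK83.tabs.same ThK83.base (g' ++ g) [] = true)
    (h' : ThK83.tabs.same ThK83.base x (g' ++ [0x2312] ++ g) = true) : ConjD (kw x) := by
  have e := kw_same h
  rw [kw_append, kw_nil] at e
  have := conjD_X.conj (kw g)
  rwa [← eq_inv_of_mul_eq_one_left e, ← kw_append, ← kw_append, ← kw_same h'] at this

theorem conjD_a : ConjD (gn .a) := by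
  have := conjD_of_wordX [1] [0x23412342] [0x24321432] (by decide +kernel) (by decide +kernel)
  rwa [kw_eq] at this

theorem conjD_b : ConjD (gn .b) := by
  have := conjD_of_wordX [2] [0x342342] [0x243243] (by decide +kernel) (by decide +kernel)
  rwa [kw_eq] at this

theorem conjD_c : ConjD (gn .c) := by
  have := conjD_of_wordX [3] [0x4342] [0x2434] (by decide +kernel) (by decide +kernel)
  rwa [kw_eq] at this

theorem conjD_bd : ConjD (gn .b * gn .d) := by
  have := conjD_of_word [0x42] [0x12343] [0x34321] (by decide +kernel) (by decide +kernel)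
  rw [kw_eq, ThK83.wordVal, show ThK83.decode [0x42] = [1, 3] by decide +kernel] at this
  simpa [ThK83.kVal] using this

theorem conjD_be : ConjD (gn .b * gn .e) := by
  have := conjD_of_word [0x52] [0x4512343] [0x3432154] (by decide +kernel) (by decide +kernel)
  rw [kw_eq, ThK83.wordVal, show ThK83.decode [0x52] = [1, 4] by decide +kernel] at this
  simpa [ThK83.kVal] using this

theorem conjD_ce : ConjD (gn .c * gn .e) := by
  have := conjD_of_word [0x53] [0x234512343] [0x343215432] (by decide +kernel) (by decide +kernel)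
  rw [kw_eq, ThK83.wordVal, show ThK83.decode [0x53] = [2, 4] by decide +kernel] at this
  simpa [ThK83.kVal] using this

theorem conjD_ae : ConjD (gn .a * gn .e) := by
  have := conjD_of_word [0x51] [0x45343] [0x34354] (by decide +kernel) (by decide +kernel)
  rw [kw_eq, ThK83.wordVal, show ThK83.decode [0x51] = [0, 4] by decide +kernel] at this
  simpa [ThK83.kVal] using this

theorem conjD_bcde : ConjD ((gn .b * gn .c * gn .d * gn .e) ^ 4) := by
  have := conjD_of_wordX [0x5432543254325432] [0x12345434] [0x43454321] (by decide +kernel)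
    (by decide +kernel)
  rw [kw_eq, ThK83.wordVal, show ThK83.decode [0x5432543254325432] =
    [1, 2, 3, 4, 1, 2, 3, 4, 1, 2, 3, 4, 1, 2, 3, 4] by decide +kernel] at this
  simpa [ThK83.kVal, pow_succ, mul_assoc] using this

end Cfsg.Agent.Lib.ThMult97
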