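import Cfsg.Agent.Lib.ThMult97.ZBase

/-!
The relators 31 and 33 hold in a central extension as soon as the other relators of groups 1 and 4,
and the seventh rule, do. Generated from short coset derivations over the subgroup of `a, b, c, d, e`.
-/

set_option autoImplicit false
set_option maxRecDepth 8000
set_option linter.unusedVariables false

namespace Cfsg.Agent.Lib.ThMult97.Coset

open Cfsg.Agent.Lib Cfsg.Agent.Lib.Th23.Seventh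

variable {G : Type*} [Group G] {φ : ThK83.Kbar →* G} {u Y Z : G}

theorem odd_central (hC : Cen Y Z) (r15' : wd φ u [5, 5, 2, 0] = 1)
    (r16' : wd φ u [6, 0, 5, 0] = 1) (r17' : wd φ u [6, 2, 5, 2] = 1) (r18' : wd φ u [6, 4, 5, 4] = 1)
    (r20' : wd φ u [6, 1, 2, 0, 1, 5, 1, 0, 2, 1, 4] = 1)
    (r22' : wd φ u [6, 0, 1, 0, 2, 1, 3, 2, 3, 4, 3, 2, 1, 0, 3, 2, 1, 3, 2, 3, 5, 3, 2, 3] = 1)
    (r21 : wd φ u [3, 6, 3, 1, 2, 0, 1, 3, 5, 3, 1, 0, 2, 1, 2, 4, 3, 6, 3, 1, 2, 0, 1, 4, 6] = zp Y Z (0, 1))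
    (r19 : wd φ u [3, 4, 6, 3, 5, 3, 4, 6, 3, 5] = zp Y Z (1, 0)) :
    zp Y Z (2, 0) = 1 ∧ zp Y Z (3, -2) = 1 := by
  have r15 := rel_z (Y := Y) (Z := Z) r15'
  have r17 := rel_z (Y := Y) (Z := Z) r17'
  have r18 := rel_z (Y := Y) (Z := Z) r18'
  have r20 := rel_z (Y := Y) (Z := Z) r20'
  have r22 := rel_z (Y := Y) (Z := Z) r22'
  have r10 : wd φ u [0, 2, 3, 2, 3, 2, 3, 2, 3] = zp Y Z (0, 0) :=
    rel_z (wd_rel (k := [0x434343431]) (by decide +kernel) (by decide +kernel))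
  have r13 : wd φ u [0, 2, 0, 2] = zp Y Z (0, 0) :=
    rel_z (wd_rel (k := [0x3131]) (by decide +kernel) (by decide +kernel))
  have e0 : Eqz φ u Y Z [] [0] [] [0x1] (0, 0) :=
    k_z (by decide +kernel) (by decide)
  have e1 : Eqz φ u Y Z [] [1] [] [0x2] (0, 0) :=
    k_z (by decide +kernel) (by decide)
  have e2 : Eqz φ u Y Z [] [2] [] [0x3] (0, 0) :=
    k_z (by decide +kernel) (by decide)
  have e3 : Eqz φ u Y Z [] [3] [] [0x4] (0, 0) :=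
    k_z (by decide +kernel) (by decide)
  have e4 : Eqz φ u Y Z [] [4] [] [0x5] (0, 0) :=
    k_z (by decide +kernel) (by decide)
  have e5 : Eqz φ u Y Z [] [5] [5] [] (0, 0) :=
    def_z [] 5
  have e6 : Eqz φ u Y Z [5] [6] [] [] (0, 0) :=
    rev_z hC (by decide) (by decide +kernel) (by decide) e5
  have e10 : Eqz φ u Y Z [5] [5] [] [0x31] (0, 0) :=
    ded_z hC (by decide) (rot_z hC r15 0) (by decide +kernel) (by decide) e5 (cons_z hC e0 e2)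
  have e11 : Eqz φ u Y Z [] [6] [5] [0x31] (0, 0) :=
    rev_z hC (by decide) (by decide +kernel) (by decide) e10
  have e66 : Eqz φ u Y Z [5] [2] [5] [0x3] (0, 0) :=
    ded_z hC (by decide) (rot_z hC r17 0) (by decide +kernel) (by decide) e11 (cons_z hC e2 e11)
  have e99 : Eqz φ u Y Z [5] [4] [5] [0x5] (0, 0) :=
    ded_z hC (by decide) (rot_z hC r18 0) (by decide +kernel) (by decide) e11 (cons_z hC e4 e11)
  have e1095 : Eqz φ u Y Z [5] [3] [5, 3] [] (0, 0) :=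
    def_z [5] 3
  have e1096 : Eqz φ u Y Z [5, 3] [3] [5] [] (0, 0) :=
    rev_z hC (by decide) (by decide +kernel) (by decide) e1095
  have e1097 : Eqz φ u Y Z [5, 3] [5] [5, 3, 5] [] (0, 0) :=
    def_z [5, 3] 5
  have e1099 : Eqz φ u Y Z [5, 3, 5] [3] [5, 3, 5, 3] [] (0, 0) :=
    def_z [5, 3, 5] 3
  have e1108 : Eqz φ u Y Z [5, 3, 5, 3] [4] [5, 3, 5] [0x3453] (1, 0) :=
    ded_z hC (by decide) (rot_z hC r19 2) (by decide +kernel) (by decide) (cons_z hC e11 (cons_z hC e1095 (cons_z hC e1097 e1099))) (cons_z hC e4 (cons_z hC e3 (cons_z hC e11 (cons_z hC e1095 e1097))))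
  have e1109 : Eqz φ u Y Z [5, 3, 5] [4] [5, 3, 5, 3] [0x5343] (-1, 0) :=
    rev_z hC (by decide) (by decide +kernel) (by decide) e1108
  have e1379 : Eqz φ u Y Z [5, 3] [2] [5, 3] [0x4342341234543423121] (0, 0) :=
    ded_z hC (by decide) (rot_z hC r22 1) (by decide +kernel) (by decide) (cons_z hC e0 (cons_z hC e1 (cons_z hC e0 (cons_z hC e2 (cons_z hC e1 (cons_z hC e3 (cons_z hC e2 (cons_z hC e3 (cons_z hC e4 (cons_z hC e3 (cons_z hC e2 (cons_z hC e1 (cons_z hC e0 (cons_z hC e3 (cons_z hC e2 (cons_z hC e1 (cons_z hC e3 (cons_z hC e2 (cons_z hC e3 (cons_z hC e5 e1095)))))))))))))))))))) (cons_z hC e5 e1095)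
  have e3418 : Eqz φ u Y Z [5, 3] [0] [5, 3] [0x1] (0, 0) :=
    ded_z hC (by decide) (rot_inv_z hC r10 (by decide) 1) (by decide +kernel) (by decide) (cons_z hC e66 (cons_z hC e1095 (cons_z hC e1379 (cons_z hC e1096 (cons_z hC e66 (cons_z hC e1095 e1379)))))) e1095
  have e3613 : Eqz φ u Y Z [5, 3, 5] [5] [5, 3] [0x434234123454342312] (0, 0) :=
    ded_z hC (by decide) (rot_z hC r15 0) (by decide +kernel) (by decide) e1097 (cons_z hC e3418 e1379)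
  have e3614 : Eqz φ u Y Z [5, 3] [6] [5, 3, 5] [0x434234123454342312] (0, 0) :=
    rev_z hC (by decide) (by decide +kernel) (by decide) e3613
  have e9695 : Eqz φ u Y Z [5, 3] [1] [5, 3, 1] [] (0, 0) :=
    def_z [5, 3] 1
  have e9697 : Eqz φ u Y Z [5, 3, 1] [2] [5, 3, 1, 2] [] (0, 0) :=
    def_z [5, 3, 1] 2
  have e9699 : Eqz φ u Y Z [5, 3, 1, 2] [0] [5, 3, 1, 2, 0] [] (0, 0) :=
    def_z [5, 3, 1, 2] 0
  have e9701 : Eqz φ u Y Z [5, 3, 1, 2, 0] [1] [5, 3, 1, 2, 0, 1] [] (0, 0) :=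
    def_z [5, 3, 1, 2, 0] 1
  have e9703 : Eqz φ u Y Z [5, 3, 1, 2, 0, 1] [4] [5, 3, 1, 2, 0, 1, 4] [] (0, 0) :=
    def_z [5, 3, 1, 2, 0, 1] 4
  have e9705 : Eqz φ u Y Z [5, 3, 1, 2, 0, 1, 4] [6] [5, 3, 1, 2, 0, 1, 4, 6] [] (0, 0) :=
    def_z [5, 3, 1, 2, 0, 1, 4] 6
  have e9707 : Eqz φ u Y Z [5, 3, 1, 2, 0, 1, 4, 6] [3] [5, 3, 1, 2, 0, 1, 4, 6, 3] [] (0, 0) :=
    def_z [5, 3, 1, 2, 0, 1, 4, 6] 3
  have e9709 : Eqz φ u Y Z [5, 3, 1, 2, 0, 1, 4, 6, 3] [6] [5, 3, 1, 2, 0, 1, 4, 6, 3, 6] [] (0, 0) :=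
    def_z [5, 3, 1, 2, 0, 1, 4, 6, 3] 6
  have e9711 : Eqz φ u Y Z [5, 3, 1, 2, 0, 1, 4, 6, 3, 6] [3] [5, 3, 1, 2, 0, 1, 4, 6, 3, 6, 3] [] (0, 0) :=
    def_z [5, 3, 1, 2, 0, 1, 4, 6, 3, 6] 3
  have e9712 : Eqz φ u Y Z [5, 3, 1, 2, 0, 1, 4, 6, 3, 6, 3] [3] [5, 3, 1, 2, 0, 1, 4, 6, 3, 6] [] (0, 0) :=
    rev_z hC (by decide) (by decide +kernel) (by decide) e9711
  have e9713 : Eqz φ u Y Z [5, 3, 1, 2, 0, 1, 4, 6, 3, 6, 3] [1] [5, 3, 1, 2, 0, 1, 4, 6, 3, 6, 3, 1] [] (0, 0) :=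
    def_z [5, 3, 1, 2, 0, 1, 4, 6, 3, 6, 3] 1
  have e9714 : Eqz φ u Y Z [5, 3, 1, 2, 0, 1, 4, 6, 3, 6, 3, 1] [1] [5, 3, 1, 2, 0, 1, 4, 6, 3, 6, 3] [] (0, 0) :=
    rev_z hC (by decide) (by decide +kernel) (by decide) e9713
  have e9715 : Eqz φ u Y Z [5, 3, 1, 2, 0, 1, 4, 6, 3, 6, 3, 1] [2] [5, 3, 1, 2, 0, 1, 4, 6, 3, 6, 3, 1, 2] [] (0, 0) :=
    def_z [5, 3, 1, 2, 0, 1, 4, 6, 3, 6, 3, 1] 2
  have e9716 : Eqz φ u Y Z [5, 3, 1, 2, 0, 1, 4, 6, 3, 6, 3, 1, 2] [2] [5, 3, 1, 2, 0, 1, 4, 6, 3, 6, 3, 1] [] (0, 0) :=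
    rev_z hC (by decide) (by decide +kernel) (by decide) e9715
  have e9739 : Eqz φ u Y Z [5, 3, 1, 2, 0, 1, 4, 6, 3, 6, 3, 1, 2] [0] [5, 3, 1] [0x3452341231] (0, 1) :=
    ded_z hC (by decide) (rot_z hC r21 17) (by decide +kernel) (by decide) (cons_z hC e11 (cons_z hC e1095 (cons_z hC e9695 (cons_z hC e9697 (cons_z hC e9699 (cons_z hC e9701 (cons_z hC e9703 (cons_z hC e9705 (cons_z hC e9707 (cons_z hC e9709 (cons_z hC e9711 (cons_z hC e9713 e9715)))))))))))) (cons_z hC e3 (cons_z hC e4 (cons_z hC e2 (cons_z hC e1 (cons_z hC e2 (cons_z hC e0 (cons_z hC e1 (cons_z hC e3 (cons_z hC e11 (cons_z hC e1095 e9695))))))))))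
  have e9740 : Eqz φ u Y Z [5, 3, 1] [0] [5, 3, 1, 2, 0, 1, 4, 6, 3, 6, 3, 1, 2] [0x3451234123] (0, -1) :=
    rev_z hC (by decide) (by decide +kernel) (by decide) e9739
  have e16963 : Eqz φ u Y Z [5, 3, 1, 2, 0, 1, 4, 6, 3, 6, 3, 1] [] [5, 3, 1, 2, 0] [0x3452341231] (0, 1) :=
    ded_z hC (by decide) (rot_z hC r13 0) (by decide +kernel) (by decide) (cons_z hC e9740 e9716) (cons_z hC e9697 e9699)
  have e16964 : Eqz φ u Y Z [5, 3, 1, 2, 0] [1] [5, 3, 1, 2, 0, 1, 4, 6, 3, 6, 3] [0x3451234123] (0, -1) :=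
    move_z hC (by decide +kernel) (by decide) e16963 e9714
  have e16965 : Eqz φ u Y Z [5, 3, 1, 2, 0, 1] [] [5, 3, 1, 2, 0, 1, 4, 6, 3, 6, 3] [0x3451234123] (0, -1) :=
    join_z hC (by decide +kernel) (by decide) e9701 e16964
  have e16969 : Eqz φ u Y Z [5, 3, 1, 2, 0, 1, 4, 6, 3, 6, 3] [] [5, 3, 1, 2, 0, 1] [0x3452341231] (0, 1) :=
    rev_z hC (by decide) (by decide +kernel) (by decide) e16965
  have e16974 : Eqz φ u Y Z [5, 3, 1, 2, 0, 1] [3] [5, 3, 1, 2, 0, 1, 4, 6, 3, 6] [0x3451234123] (0, -1) :=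
    move_z hC (by decide +kernel) (by decide) e16969 e9712
  have e16975 : Eqz φ u Y Z [5, 3, 1, 2, 0, 1, 4, 6, 3, 6] [3] [5, 3, 1, 2, 0, 1] [0x3452341231] (0, 1) :=
    rev_z hC (by decide) (by decide +kernel) (by decide) e16974
  have e18488 : Eqz φ u Y Z [5, 3] [4] [5, 3, 4] [] (0, 0) :=
    def_z [5, 3] 4
  have e18489 : Eqz φ u Y Z [5, 3, 4] [4] [5, 3] [] (0, 0) :=
    rev_z hC (by decide) (by decide +kernel) (by decide) e18488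
  have e18497 : Eqz φ u Y Z [5, 3, 4] [6] [5, 3, 5, 3] [0x542341234534342312] (1, 0) :=
    ded_z hC (by decide) (rot_z hC r19 2) (by decide +kernel) (by decide) (cons_z hC e6 (cons_z hC e3 (cons_z hC e5 (cons_z hC e1095 e18488)))) (cons_z hC e99 (cons_z hC e1095 (cons_z hC e3614 e1099)))
  have e18498 : Eqz φ u Y Z [5, 3, 5, 3] [5] [5, 3, 4] [0x234123453434234512] (-1, 0) :=
    rev_z hC (by decide) (by decide +kernel) (by decide) e18497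
  have e23107 : Eqz φ u Y Z [5, 3] [] [5, 3] [] (2, 0) :=
    ded_z hC (by decide) (rot_z hC r18 0) (by decide +kernel) (by decide) (cons_z hC e3614 (cons_z hC e1109 (cons_z hC e18498 e18489))) (nil_z [5, 3])
  have e29489 : Eqz φ u Y Z [5, 3, 5, 3] [1] [5, 3, 5, 3, 1] [] (0, 0) :=
    def_z [5, 3, 5, 3] 1
  have e29491 : Eqz φ u Y Z [5, 3, 5, 3, 1] [2] [5, 3, 5, 3, 1, 2] [] (0, 0) :=
    def_z [5, 3, 5, 3, 1] 2
  have e29493 : Eqz φ u Y Z [5, 3, 5, 3, 1, 2] [0] [5, 3, 5, 3, 1, 2, 0] [] (0, 0) :=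
    def_z [5, 3, 5, 3, 1, 2] 0
  have e29495 : Eqz φ u Y Z [5, 3, 5, 3, 1, 2, 0] [1] [5, 3, 5, 3, 1, 2, 0, 1] [] (0, 0) :=
    def_z [5, 3, 5, 3, 1, 2, 0] 1
  have e34861 : Eqz φ u Y Z [5, 3, 1, 2, 0, 1] [5] [5, 3, 5, 3, 1, 2, 0, 1] [0x5343] (-1, 0) :=
    ded_z hC (by decide) (rot_z hC r20 1) (by decide +kernel) (by decide) (cons_z hC e9695 (cons_z hC e9697 (cons_z hC e9699 e9701))) (cons_z hC e1097 (cons_z hC e1109 (cons_z hC e29489 (cons_z hC e29491 (cons_z hC e29493 e29495)))))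
  have e34871 : Eqz φ u Y Z [5, 3, 1, 2, 0, 1] [6] [5, 3, 5, 3, 1, 2, 0, 1] [0x542341234534342312] (1, 0) :=
    ded_z hC (by decide) (rot_inv_z hC r20 (by decide) 1) (by decide +kernel) (by decide) (cons_z hC e9695 (cons_z hC e9697 (cons_z hC e9699 e9701))) (cons_z hC e18488 (cons_z hC e18497 (cons_z hC e29489 (cons_z hC e29491 (cons_z hC e29493 e29495)))))
  have e39911 : Eqz φ u Y Z [5, 3, 5, 3, 1, 2, 0, 1] [4] [5, 3, 1, 2, 0, 1, 4, 6] [0x234123453434234512] (-1, 0) :=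
    ded_z hC (by decide) (rot_z hC r18 0) (by decide +kernel) (by decide) e34871 (cons_z hC e9703 e9705)
  have e39950 : Eqz φ u Y Z [5, 3, 1, 2, 0, 1] [] [5, 3, 1, 2, 0, 1] [] (3, -2) :=
    ded_z hC (by decide) (rot_inv_z hC r19 (by decide) 2) (by decide +kernel) (by decide) (cons_z hC e34861 (cons_z hC e39911 (cons_z hC e9707 (cons_z hC e9709 (cons_z hC e16975 (cons_z hC e34861 (cons_z hC e39911 (cons_z hC e9707 (cons_z hC e9709 e16975))))))))) (nil_z [5, 3, 1, 2, 0, 1])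
  exact ⟨closed_z hC (by decide +kernel) e23107, closed_z hC (by decide +kernel) e39950⟩

theorem two_central (hC : Cen Y Z) (r15' : wd φ u [5, 5, 2, 0] = 1)
    (r16' : wd φ u [6, 0, 5, 0] = 1) (r17' : wd φ u [6, 2, 5, 2] = 1) (r18' : wd φ u [6, 4, 5, 4] = 1)
    (r20' : wd φ u [6, 1, 2, 0, 1, 5, 1, 0, 2, 1, 4] = 1)
    (r22' : wd φ u [6, 0, 1, 0, 2, 1, 3, 2, 3, 4, 3, 2, 1, 0, 3, 2, 1, 3, 2, 3, 5, 3, 2, 3] = 1)
    (r21 : wd φ u [3, 6, 3, 1, 2, 0, 1, 3, 5, 3, 1, 0, 2, 1, 2, 4, 3, 6, 3, 1, 2, 0, 1, 4, 6] = zp Y Z (0, 1))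
    (r19' : wd φ u [3, 4, 6, 3, 5, 3, 4, 6, 3, 5] = 1) :
    zp Y Z (0, -3) = 1 := by
  have r15 := rel_z (Y := Y) (Z := Z) r15'
  have r16 := rel_z (Y := Y) (Z := Z) r16'
  have r17 := rel_z (Y := Y) (Z := Z) r17'
  have r18 := rel_z (Y := Y) (Z := Z) r18'
  have r20 := rel_z (Y := Y) (Z := Z) r20'
  have r22 := rel_z (Y := Y) (Z := Z) r22'
  have r19 := rel_z (Y := Y) (Z := Z) r19'
  have r5 : wd φ u [0, 1, 0, 1, 0, 1] = zp Y Z (0, 0) :=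
    rel_z (wd_rel (k := [0x212121]) (by decide +kernel) (by decide +kernel))
  have r7 : wd φ u [1, 2, 1, 2, 1, 2] = zp Y Z (0, 0) :=
    rel_z (wd_rel (k := [0x323232]) (by decide +kernel) (by decide +kernel))
  have r8 : wd φ u [1, 3, 1, 3] = zp Y Z (0, 0) :=
    rel_z (wd_rel (k := [0x4242]) (by decide +kernel) (by decide +kernel))
  have r9 : wd φ u [1, 4, 1, 4] = zp Y Z (0, 0) :=
    rel_z (wd_rel (k := [0x5252]) (by decide +kernel) (by decide +kernel))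
  have r10 : wd φ u [0, 2, 3, 2, 3, 2, 3, 2, 3] = zp Y Z (0, 0) :=
    rel_z (wd_rel (k := [0x434343431]) (by decide +kernel) (by decide +kernel))
  have r11 : wd φ u [2, 4, 2, 4] = zp Y Z (0, 0) :=
    rel_z (wd_rel (k := [0x5353]) (by decide +kernel) (by decide +kernel))
  have r12 : wd φ u [3, 4, 3, 4, 3, 4] = zp Y Z (0, 0) :=
    rel_z (wd_rel (k := [0x545454]) (by decide +kernel) (by decide +kernel))
  have r13 : wd φ u [0, 2, 0, 2] = zp Y Z (0, 0) :=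
    rel_z (wd_rel (k := [0x3131]) (by decide +kernel) (by decide +kernel))
  have e0 : Eqz φ u Y Z [] [0] [] [0x1] (0, 0) :=
    k_z (by decide +kernel) (by decide)
  have e1 : Eqz φ u Y Z [] [1] [] [0x2] (0, 0) :=
    k_z (by decide +kernel) (by decide)
  have e2 : Eqz φ u Y Z [] [2] [] [0x3] (0, 0) :=
    k_z (by decide +kernel) (by decide)
  have e3 : Eqz φ u Y Z [] [3] [] [0x4] (0, 0) :=
    k_z (by decide +kernel) (by decide)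
  have e4 : Eqz φ u Y Z [] [4] [] [0x5] (0, 0) :=
    k_z (by decide +kernel) (by decide)
  have e9 : Eqz φ u Y Z [] [6] [6] [] (0, 0) :=
    def_z [] 6
  have e16 : Eqz φ u Y Z [] [5] [6] [0x31] (0, 0) :=
    ded_z hC (by decide) (rot_z hC r15 0) (by decide +kernel) (by decide) (nil_z []) (cons_z hC e0 (cons_z hC e2 e9))
  have e17 : Eqz φ u Y Z [6] [6] [] [0x31] (0, 0) :=
    rev_z hC (by decide) (by decide +kernel) (by decide) e16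
  have e39 : Eqz φ u Y Z [6] [0] [6] [0x1] (0, 0) :=
    ded_z hC (by decide) (rot_z hC r16 0) (by decide +kernel) (by decide) e9 (cons_z hC e0 e9)
  have e72 : Eqz φ u Y Z [6] [2] [6] [0x3] (0, 0) :=
    ded_z hC (by decide) (rot_z hC r17 0) (by decide +kernel) (by decide) e9 (cons_z hC e2 e9)
  have e105 : Eqz φ u Y Z [6] [4] [6] [0x5] (0, 0) :=
    ded_z hC (by decide) (rot_z hC r18 0) (by decide +kernel) (by decide) e9 (cons_z hC e4 e9)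
  have e1104 : Eqz φ u Y Z [6] [1] [6, 1] [] (0, 0) :=
    def_z [6] 1
  have e1105 : Eqz φ u Y Z [6, 1] [1] [6] [] (0, 0) :=
    rev_z hC (by decide) (by decide +kernel) (by decide) e1104
  have e1106 : Eqz φ u Y Z [6, 1] [0] [6, 1, 0] [] (0, 0) :=
    def_z [6, 1] 0
  have e1116 : Eqz φ u Y Z [6, 1, 0] [2] [6, 1] [0x52312] (0, 0) :=
    ded_z hC (by decide) (rot_inv_z hC r20 (by decide) 5) (by decide +kernel) (by decide) (cons_z hC e9 (cons_z hC e1104 e1106)) (cons_z hC e1 (cons_z hC e0 (cons_z hC e2 (cons_z hC e1 (cons_z hC e4 (cons_z hC e9 e1104))))))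
  have e1117 : Eqz φ u Y Z [6, 1] [2] [6, 1, 0] [0x52312] (0, 0) :=
    rev_z hC (by decide) (by decide +kernel) (by decide) e1116
  have e2491 : Eqz φ u Y Z [6, 1, 0] [1] [6, 1, 0] [0x1] (0, 0) :=
    ded_z hC (by decide) (rot_z hC r5 0) (by decide +kernel) (by decide) (cons_z hC e39 (cons_z hC e1104 e1106)) (cons_z hC e1104 e1106)
  have e2634 : Eqz φ u Y Z [6, 1] [4] [6, 1] [0x5] (0, 0) :=
    ded_z hC (by decide) (rot_z hC r9 0) (by decide +kernel) (by decide) e1104 (cons_z hC e105 e1104)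
  have e3383 : Eqz φ u Y Z [6] [3] [6, 3] [] (0, 0) :=
    def_z [6] 3
  have e3384 : Eqz φ u Y Z [6, 3] [3] [6] [] (0, 0) :=
    rev_z hC (by decide) (by decide +kernel) (by decide) e3383
  have e3385 : Eqz φ u Y Z [6, 3] [5] [6, 3, 5] [] (0, 0) :=
    def_z [6, 3] 5
  have e3386 : Eqz φ u Y Z [6, 3, 5] [6] [6, 3] [] (0, 0) :=
    rev_z hC (by decide) (by decide +kernel) (by decide) e3385
  have e3387 : Eqz φ u Y Z [6, 3, 5] [3] [6, 3, 5, 3] [] (0, 0) :=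
    def_z [6, 3, 5] 3
  have e3388 : Eqz φ u Y Z [6, 3, 5, 3] [3] [6, 3, 5] [] (0, 0) :=
    rev_z hC (by decide) (by decide +kernel) (by decide) e3387
  have e3396 : Eqz φ u Y Z [6, 3, 5, 3] [4] [6, 3, 5] [0x45] (0, 0) :=
    ded_z hC (by decide) (rot_z hC r19 5) (by decide +kernel) (by decide) (cons_z hC e3 (cons_z hC e4 (cons_z hC e9 (cons_z hC e3383 (cons_z hC e3385 e3387))))) (cons_z hC e9 (cons_z hC e3383 e3385))
  have e3397 : Eqz φ u Y Z [6, 3, 5] [4] [6, 3, 5, 3] [0x54] (0, 0) :=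
    rev_z hC (by decide) (by decide +kernel) (by decide) e3396
  have e3909 : Eqz φ u Y Z [6, 3] [2] [6, 3] [0x434234123454342312] (0, 0) :=
    ded_z hC (by decide) (rot_z hC r22 1) (by decide +kernel) (by decide) (cons_z hC e0 (cons_z hC e1 (cons_z hC e0 (cons_z hC e2 (cons_z hC e1 (cons_z hC e3 (cons_z hC e2 (cons_z hC e3 (cons_z hC e4 (cons_z hC e3 (cons_z hC e2 (cons_z hC e1 (cons_z hC e0 (cons_z hC e3 (cons_z hC e2 (cons_z hC e1 (cons_z hC e3 (cons_z hC e2 (cons_z hC e3 (cons_z hC e16 e3383)))))))))))))))))))) (cons_z hC e16 e3383)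
  have e6234 : Eqz φ u Y Z [6, 3] [0] [6, 3] [0x1] (0, 0) :=
    ded_z hC (by decide) (rot_inv_z hC r10 (by decide) 1) (by decide +kernel) (by decide) (cons_z hC e72 (cons_z hC e3383 (cons_z hC e3909 (cons_z hC e3384 (cons_z hC e72 (cons_z hC e3383 e3909)))))) e3383
  have e7041 : Eqz φ u Y Z [6, 3, 5] [5] [6, 3] [0x4342341234543423121] (0, 0) :=
    ded_z hC (by decide) (rot_z hC r15 0) (by decide +kernel) (by decide) e3385 (cons_z hC e6234 e3909)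
  have e7042 : Eqz φ u Y Z [6, 3] [6] [6, 3, 5] [0x4342341234543423121] (0, 0) :=
    rev_z hC (by decide) (by decide +kernel) (by decide) e7041
  have e7064 : Eqz φ u Y Z [6, 3, 5] [0] [6, 3, 5] [0x1] (0, 0) :=
    ded_z hC (by decide) (rot_z hC r16 0) (by decide +kernel) (by decide) e7042 (cons_z hC e6234 e7042)
  have e7097 : Eqz φ u Y Z [6, 3, 5] [2] [6, 3, 5] [0x434234123454342312] (0, 0) :=
    ded_z hC (by decide) (rot_z hC r17 0) (by decide +kernel) (by decide) e7042 (cons_z hC e3909 e7042)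
  have e7676 : Eqz φ u Y Z [6, 3, 5, 3] [2] [6, 3, 5, 3] [0x423412345434234121] (0, 0) :=
    ded_z hC (by decide) (rot_z hC r11 0) (by decide +kernel) (by decide) (cons_z hC e7097 e3397) e3397
  have e8153 : Eqz φ u Y Z [6, 3] [1] [6, 3, 1] [] (0, 0) :=
    def_z [6, 3] 1
  have e8155 : Eqz φ u Y Z [6, 3, 1] [0] [6, 3, 1, 0] [] (0, 0) :=
    def_z [6, 3, 1] 0
  have e8157 : Eqz φ u Y Z [6, 3, 1, 0] [2] [6, 3, 1, 0, 2] [] (0, 0) :=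
    def_z [6, 3, 1, 0] 2
  have e8158 : Eqz φ u Y Z [6, 3, 1, 0, 2] [2] [6, 3, 1, 0] [] (0, 0) :=
    rev_z hC (by decide) (by decide +kernel) (by decide) e8157
  have e8159 : Eqz φ u Y Z [6, 3, 1, 0, 2] [1] [6, 3, 1, 0, 2, 1] [] (0, 0) :=
    def_z [6, 3, 1, 0, 2] 1
  have e8161 : Eqz φ u Y Z [6, 3, 1, 0, 2, 1] [3] [6, 3, 1, 0, 2, 1, 3] [] (0, 0) :=
    def_z [6, 3, 1, 0, 2, 1] 3
  have e8163 : Eqz φ u Y Z [6, 3, 1, 0, 2, 1, 3] [5] [6, 3, 1, 0, 2, 1, 3, 5] [] (0, 0) :=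
    def_z [6, 3, 1, 0, 2, 1, 3] 5
  have e8164 : Eqz φ u Y Z [6, 3, 1, 0, 2, 1, 3, 5] [6] [6, 3, 1, 0, 2, 1, 3] [] (0, 0) :=
    rev_z hC (by decide) (by decide +kernel) (by decide) e8163
  have e8165 : Eqz φ u Y Z [6, 3, 1, 0, 2, 1, 3, 5] [3] [6, 3, 1, 0, 2, 1, 3, 5, 3] [] (0, 0) :=
    def_z [6, 3, 1, 0, 2, 1, 3, 5] 3
  have e8166 : Eqz φ u Y Z [6, 3, 1, 0, 2, 1, 3, 5, 3] [3] [6, 3, 1, 0, 2, 1, 3, 5] [] (0, 0) :=
    rev_z hC (by decide) (by decide +kernel) (by decide) e8165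
  have e8167 : Eqz φ u Y Z [6, 3, 1, 0, 2, 1, 3, 5, 3] [5] [6, 3, 1, 0, 2, 1, 3, 5, 3, 5] [] (0, 0) :=
    def_z [6, 3, 1, 0, 2, 1, 3, 5, 3] 5
  have e8168 : Eqz φ u Y Z [6, 3, 1, 0, 2, 1, 3, 5, 3, 5] [6] [6, 3, 1, 0, 2, 1, 3, 5, 3] [] (0, 0) :=
    rev_z hC (by decide) (by decide +kernel) (by decide) e8167
  have e8169 : Eqz φ u Y Z [6, 3, 1, 0, 2, 1, 3, 5, 3, 5] [4] [6, 3, 1, 0, 2, 1, 3, 5, 3, 5, 4] [] (0, 0) :=
    def_z [6, 3, 1, 0, 2, 1, 3, 5, 3, 5] 4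
  have e8170 : Eqz φ u Y Z [6, 3, 1, 0, 2, 1, 3, 5, 3, 5, 4] [4] [6, 3, 1, 0, 2, 1, 3, 5, 3, 5] [] (0, 0) :=
    rev_z hC (by decide) (by decide +kernel) (by decide) e8169
  have e8171 : Eqz φ u Y Z [6, 3, 1, 0, 2, 1, 3, 5, 3, 5, 4] [1] [6, 3, 1, 0, 2, 1, 3, 5, 3, 5, 4, 1] [] (0, 0) :=
    def_z [6, 3, 1, 0, 2, 1, 3, 5, 3, 5, 4] 1
  have e8172 : Eqz φ u Y Z [6, 3, 1, 0, 2, 1, 3, 5, 3, 5, 4, 1] [1] [6, 3, 1, 0, 2, 1, 3, 5, 3, 5, 4] [] (0, 0) :=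
    rev_z hC (by decide) (by decide +kernel) (by decide) e8171
  have e8173 : Eqz φ u Y Z [6, 3, 1, 0, 2, 1, 3, 5, 3, 5, 4, 1] [0] [6, 3, 1, 0, 2, 1, 3, 5, 3, 5, 4, 1, 0] [] (0, 0) :=
    def_z [6, 3, 1, 0, 2, 1, 3, 5, 3, 5, 4, 1] 0
  have e8174 : Eqz φ u Y Z [6, 3, 1, 0, 2, 1, 3, 5, 3, 5, 4, 1, 0] [0] [6, 3, 1, 0, 2, 1, 3, 5, 3, 5, 4, 1] [] (0, 0) :=
    rev_z hC (by decide) (by decide +kernel) (by decide) e8173
  have e8197 : Eqz φ u Y Z [6, 3, 1, 0, 2, 1, 3, 5, 3, 5, 4, 1, 0] [2] [6, 3, 1] [0x45234121] (0, -1) :=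
    ded_z hC (by decide) (rot_inv_z hC r21 (by decide) 14) (by decide +kernel) (by decide) (cons_z hC e1 (cons_z hC e3 (cons_z hC e9 (cons_z hC e3383 (cons_z hC e8153 (cons_z hC e8155 (cons_z hC e8157 (cons_z hC e8159 (cons_z hC e8161 (cons_z hC e8163 (cons_z hC e8165 (cons_z hC e8167 (cons_z hC e8169 (cons_z hC e8171 e8173)))))))))))))) (cons_z hC e0 (cons_z hC e2 (cons_z hC e1 (cons_z hC e2 (cons_z hC e4 (cons_z hC e3 (cons_z hC e9 (cons_z hC e3383 e8153))))))))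
  have e8198 : Eqz φ u Y Z [6, 3, 1] [2] [6, 3, 1, 0, 2, 1, 3, 5, 3, 5, 4, 1, 0] [0x45123412] (0, 1) :=
    rev_z hC (by decide) (by decide +kernel) (by decide) e8197
  have e9160 : Eqz φ u Y Z [6, 3, 1, 0] [3] [6, 1, 0] [] (0, 0) :=
    ded_z hC (by decide) (rot_z hC r22 0) (by decide +kernel) (by decide) (cons_z hC e9 (cons_z hC e39 (cons_z hC e1104 (cons_z hC e1106 (cons_z hC e1116 (cons_z hC e1105 (cons_z hC e3383 (cons_z hC e3909 (cons_z hC e3384 (cons_z hC e105 (cons_z hC e3383 (cons_z hC e3909 (cons_z hC e8153 e8155))))))))))))) (cons_z hC e3 (cons_z hC e2 (cons_z hC e3 (cons_z hC e9 (cons_z hC e3383 (cons_z hC e3909 (cons_z hC e3384 (cons_z hC e1104 e1117))))))))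
  have e9161 : Eqz φ u Y Z [6, 1, 0] [3] [6, 3, 1, 0] [] (0, 0) :=
    rev_z hC (by decide) (by decide +kernel) (by decide) e9160
  have e12047 : Eqz φ u Y Z [6, 1] [3] [6, 3, 1] [] (0, 0) :=
    ded_z hC (by decide) (rot_z hC r8 0) (by decide +kernel) (by decide) e1104 (cons_z hC e3383 e8153)
  have e12048 : Eqz φ u Y Z [6, 3, 1] [3] [6, 1] [] (0, 0) :=
    rev_z hC (by decide) (by decide +kernel) (by decide) e12047
  have e13124 : Eqz φ u Y Z [6, 3, 1, 0] [1] [6, 3, 1, 0] [0x1] (0, 0) :=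
    ded_z hC (by decide) (rot_z hC r8 0) (by decide +kernel) (by decide) (cons_z hC e2491 e9161) e9161
  have e13987 : Eqz φ u Y Z [6, 3, 1, 0, 2, 1, 3, 5, 3, 5, 4, 1, 0] [1] [6, 3, 1, 0, 2, 1, 3, 5, 3, 5, 4, 1, 0] [0x434234123454342312] (0, 0) :=
    ded_z hC (by decide) (rot_z hC r7 0) (by decide +kernel) (by decide) (cons_z hC e8153 e8198) (cons_z hC e3909 (cons_z hC e8153 e8198))
  have e15421 : Eqz φ u Y Z [6, 3, 1, 0, 2] [] [6, 3, 1, 0, 2, 1, 3, 5, 3, 5, 4, 1] [0x45123412] (0, 1) :=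
    ded_z hC (by decide) (rot_z hC r13 0) (by decide +kernel) (by decide) (cons_z hC e8155 e8157) (cons_z hC e8198 e8174)
  have e15422 : Eqz φ u Y Z [6, 3, 1, 0, 2, 1, 3, 5, 3, 5, 4, 1] [] [6, 3, 1, 0, 2] [0x45234121] (0, -1) :=
    rev_z hC (by decide) (by decide +kernel) (by decide) e15421
  have e15423 : Eqz φ u Y Z [6, 3, 1, 0, 2] [0] [6, 3, 1, 0, 2, 1, 3, 5, 3, 5, 4, 1, 0] [0x45123412] (0, 1) :=
    move_z hC (by decide +kernel) (by decide) e15422 e8173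
  have e15424 : Eqz φ u Y Z [6, 3, 1, 0, 2, 1, 3, 5, 3, 5, 4, 1, 0] [0] [6, 3, 1, 0, 2] [0x45234121] (0, -1) :=
    rev_z hC (by decide) (by decide +kernel) (by decide) e15423
  have e15425 : Eqz φ u Y Z [6, 3, 1, 0, 2] [1] [6, 3, 1, 0, 2, 1, 3, 5, 3, 5, 4] [0x45123412] (0, 1) :=
    move_z hC (by decide +kernel) (by decide) e15422 e8172
  have e15426 : Eqz φ u Y Z [6, 3, 1, 0, 2, 1] [] [6, 3, 1, 0, 2, 1, 3, 5, 3, 5, 4] [0x45123412] (0, 1) :=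
    join_z hC (by decide +kernel) (by decide) e8159 e15425
  have e15428 : Eqz φ u Y Z [6, 3, 1, 0, 2, 1, 3, 5, 3, 5, 4] [] [6, 3, 1, 0, 2, 1] [0x45234121] (0, -1) :=
    rev_z hC (by decide) (by decide +kernel) (by decide) e15426
  have e15433 : Eqz φ u Y Z [6, 3, 1, 0, 2, 1] [4] [6, 3, 1, 0, 2, 1, 3, 5, 3, 5] [0x45123412] (0, 1) :=
    move_z hC (by decide +kernel) (by decide) e15428 e8170
  have e15638 : Eqz φ u Y Z [6, 3, 1, 0, 2, 1] [2] [6, 3, 1, 0, 2, 1] [0x1] (0, 0) :=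
    ded_z hC (by decide) (rot_z hC r7 0) (by decide +kernel) (by decide) (cons_z hC e13124 (cons_z hC e8157 e8159)) (cons_z hC e8157 e8159)
  have e15875 : Eqz φ u Y Z [6, 3, 1, 0, 2, 1] [0] [6, 3, 1, 0, 2, 1] [0x434234123454342312] (0, 0) :=
    ded_z hC (by decide) (rot_z hC r5 0) (by decide +kernel) (by decide) (cons_z hC e15423 (cons_z hC e13987 (cons_z hC e15424 e8159))) e8159
  have e16294 : Eqz φ u Y Z [6, 3, 1, 0, 2, 1, 3, 5, 3, 5] [2] [6, 3, 1, 0, 2, 1, 3, 5, 3, 5] [0x434] (0, 0) :=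
    ded_z hC (by decide) (rot_z hC r11 0) (by decide +kernel) (by decide) (cons_z hC e15638 e15433) e15433
  have e16461 : Eqz φ u Y Z [6, 3, 1, 0, 2, 1, 3, 5, 3] [2] [6, 3, 1, 0, 2, 1, 3, 5, 3] [0x434] (0, 0) :=
    ded_z hC (by decide) (rot_z hC r17 1) (by decide +kernel) (by decide) (nil_z [6, 3, 1, 0, 2, 1, 3, 5, 3]) (cons_z hC e8167 (cons_z hC e16294 e8168))
  have e16995 : Eqz φ u Y Z [6, 3] [4] [6, 3, 4] [] (0, 0) :=
    def_z [6, 3] 4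
  have e17004 : Eqz φ u Y Z [6, 3, 4] [6] [6, 3, 5, 3] [0x5342341234543423121] (0, 0) :=
    ded_z hC (by decide) (rot_z hC r19 5) (by decide +kernel) (by decide) (cons_z hC e3383 e16995) (cons_z hC e17 (cons_z hC e3 (cons_z hC e16 (cons_z hC e105 (cons_z hC e3383 (cons_z hC e7042 e3387))))))
  have e17005 : Eqz φ u Y Z [6, 3, 5, 3] [5] [6, 3, 4] [0x2341234543423451231] (0, 0) :=
    rev_z hC (by decide) (by decide +kernel) (by decide) e17004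
  have e21521 : Eqz φ u Y Z [6, 3, 4] [3] [6, 3, 4] [0x5] (0, 0) :=
    ded_z hC (by decide) (rot_z hC r12 0) (by decide +kernel) (by decide) (cons_z hC e3383 e16995) (cons_z hC e105 (cons_z hC e3383 e16995))
  have e22844 : Eqz φ u Y Z [6, 3, 4] [5] [6, 3, 5, 3] [0x54] (0, 0) :=
    ded_z hC (by decide) (rot_z hC r18 1) (by decide +kernel) (by decide) e16995 (cons_z hC e3385 e3397)
  have e28763 : Eqz φ u Y Z [6, 3, 1] [4] [6, 3, 1, 4] [] (0, 0) :=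
    def_z [6, 3, 1] 4
  have e28765 : Eqz φ u Y Z [6, 3, 1, 4] [3] [6, 3, 1, 4, 3] [] (0, 0) :=
    def_z [6, 3, 1, 4] 3
  have e28767 : Eqz φ u Y Z [6, 3, 1, 4, 3] [2] [6, 3, 1, 4, 3, 2] [] (0, 0) :=
    def_z [6, 3, 1, 4, 3] 2
  have e28769 : Eqz φ u Y Z [6, 3, 1, 4, 3, 2] [1] [6, 3, 1, 4, 3, 2, 1] [] (0, 0) :=
    def_z [6, 3, 1, 4, 3, 2] 1
  have e28771 : Eqz φ u Y Z [6, 3, 1, 4, 3, 2, 1] [4] [6, 3, 1, 4, 3, 2, 1, 4] [] (0, 0) :=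
    def_z [6, 3, 1, 4, 3, 2, 1] 4
  have e28773 : Eqz φ u Y Z [6, 3, 1, 4, 3, 2, 1, 4] [3] [6, 3, 1, 4, 3, 2, 1, 4, 3] [] (0, 0) :=
    def_z [6, 3, 1, 4, 3, 2, 1, 4] 3
  have e28775 : Eqz φ u Y Z [6, 3, 1, 4, 3, 2, 1, 4, 3] [2] [6, 3, 1, 4, 3, 2, 1, 4, 3, 2] [] (0, 0) :=
    def_z [6, 3, 1, 4, 3, 2, 1, 4, 3] 2
  have e28776 : Eqz φ u Y Z [6, 3, 1, 4, 3, 2, 1, 4, 3, 2] [2] [6, 3, 1, 4, 3, 2, 1, 4, 3] [] (0, 0) :=
    rev_z hC (by decide) (by decide +kernel) (by decide) e28775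
  have e28777 : Eqz φ u Y Z [6, 3, 1, 4, 3, 2, 1, 4, 3, 2] [1] [6, 3, 1, 4, 3, 2, 1, 4, 3, 2, 1] [] (0, 0) :=
    def_z [6, 3, 1, 4, 3, 2, 1, 4, 3, 2] 1
  have e34106 : Eqz φ u Y Z [6, 3, 1, 4, 3] [] [6, 3, 1, 4] [0x5] (0, 0) :=
    ded_z hC (by decide) (rot_z hC r12 0) (by decide +kernel) (by decide) (cons_z hC e12047 (cons_z hC e28763 e28765)) (cons_z hC e2634 (cons_z hC e12047 e28763))
  have e34107 : Eqz φ u Y Z [6, 3, 1, 4] [2] [6, 3, 1, 4, 3, 2] [0x5] (0, 0) :=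
    move_z hC (by decide +kernel) (by decide) e34106 e28767
  have e38053 : Eqz φ u Y Z [6, 3, 1, 0, 2, 1, 3, 5, 3, 5, 4, 1, 0] [4] [6, 3, 1, 4, 3, 2] [0x454234121] (0, -1) :=
    ded_z hC (by decide) (rot_z hC r11 0) (by decide +kernel) (by decide) e8198 (cons_z hC e28763 e34107)
  have e40152 : Eqz φ u Y Z [6, 3, 1, 4, 3, 2, 1, 4] [] [6, 3, 1, 0, 2, 1, 3, 5, 3, 5, 4, 1, 0] [0x3454342345123431] (0, 1) :=
    ded_z hC (by decide) (rot_z hC r9 0) (by decide +kernel) (by decide) (cons_z hC e13987 (cons_z hC e38053 (cons_z hC e28769 e28771))) (nil_z [6, 3, 1, 0, 2, 1, 3, 5, 3, 5, 4, 1, 0])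
  have e40153 : Eqz φ u Y Z [6, 3, 1, 0, 2, 1, 3, 5, 3, 5, 4, 1, 0] [3] [6, 3, 1, 4, 3, 2, 1, 4, 3] [0x3453412341234543] (0, -1) :=
    move_z hC (by decide +kernel) (by decide) e40152 e28773
  have e40154 : Eqz φ u Y Z [6, 3, 1, 4, 3, 2, 1, 4, 3] [3] [6, 3, 1, 0, 2, 1, 3, 5, 3, 5, 4, 1, 0] [0x3454342345123431] (0, 1) :=
    rev_z hC (by decide) (by decide +kernel) (by decide) e40153
  have e40205 : Eqz φ u Y Z [6, 3, 1, 4, 3, 2, 1, 4, 3, 2] [] [6, 3, 1, 4, 3, 2, 1, 4, 3] [0x43452341234] (0, 0) :=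
    ded_z hC (by decide) (rot_z hC r10 0) (by decide +kernel) (by decide) (cons_z hC e15424 (cons_z hC e8158 (cons_z hC e9160 (cons_z hC e1116 (cons_z hC e12047 (cons_z hC e8198 (cons_z hC e40153 e28775))))))) e40153
  have e40206 : Eqz φ u Y Z [6, 3, 1, 4, 3, 2, 1, 4, 3] [1] [6, 3, 1, 4, 3, 2, 1, 4, 3, 2, 1] [0x43452341234] (0, 0) :=
    move_z hC (by decide +kernel) (by decide) e40205 e28777
  have e40207 : Eqz φ u Y Z [6, 3, 1, 4, 3, 2, 1, 4, 3, 2, 1] [1] [6, 3, 1, 4, 3, 2, 1, 4, 3] [0x43452341234] (0, 0) :=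
    rev_z hC (by decide) (by decide +kernel) (by decide) e40206
  have e40208 : Eqz φ u Y Z [6, 3, 1, 4, 3, 2, 1, 4, 3] [2] [6, 3, 1, 4, 3, 2, 1, 4, 3] [0x43452341234] (0, 0) :=
    move_z hC (by decide +kernel) (by decide) e40205 e28776
  have e40210 : Eqz φ u Y Z [6, 3, 1, 4, 3, 2, 1, 4, 3] [2] [6, 3, 1, 4, 3, 2, 1, 4, 3] [0x43452341234] (0, 0) :=
    rev_z hC (by decide) (by decide +kernel) (by decide) e40208
  have e42716 : Eqz φ u Y Z [6, 3, 1, 4, 3, 2, 1, 4, 3, 2, 1] [] [6, 3, 1, 4, 3, 2, 1, 4, 3] [0x434543423412345] (0, 0) :=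
    ded_z hC (by decide) (rot_z hC r8 0) (by decide +kernel) (by decide) e40206 (cons_z hC e40154 (cons_z hC e13987 e40153))
  have e42717 : Eqz φ u Y Z [6, 3, 1, 4, 3, 2, 1, 4, 3] [1] [6, 3, 1, 4, 3, 2, 1, 4, 3] [0x423412345343423412] (0, 0) :=
    move_z hC (by decide +kernel) (by decide) e42716 e40207
  have e42719 : Eqz φ u Y Z [6, 3, 1, 4, 3, 2, 1, 4, 3] [1] [6, 3, 1, 4, 3, 2, 1, 4, 3] [0x423412345343423412] (0, 0) :=
    rev_z hC (by decide) (by decide +kernel) (by decide) e42717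
  have e45021 : Eqz φ u Y Z [6, 3, 1, 0, 2] [3] [6, 3, 1, 0, 2, 3] [] (0, 0) :=
    def_z [6, 3, 1, 0, 2] 3
  have e45022 : Eqz φ u Y Z [6, 3, 1, 0, 2, 3] [3] [6, 3, 1, 0, 2] [] (0, 0) :=
    rev_z hC (by decide) (by decide +kernel) (by decide) e45021
  have e45029 : Eqz φ u Y Z [6, 3, 1, 0, 2, 3] [0] [6, 3, 1, 4, 3, 2, 1, 4, 3] [0x5434234123454342312] (0, 0) :=
    ded_z hC (by decide) (rot_z hC r10 5) (by decide +kernel) (by decide) (cons_z hC e1117 (cons_z hC e9161 (cons_z hC e8157 e45021))) (cons_z hC e12047 (cons_z hC e8198 (cons_z hC e40153 e40210)))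
  have e45030 : Eqz φ u Y Z [6, 3, 1, 4, 3, 2, 1, 4, 3] [0] [6, 3, 1, 0, 2, 3] [0x4342345123434542312] (0, 0) :=
    rev_z hC (by decide) (by decide +kernel) (by decide) e45029
  have e50780 : Eqz φ u Y Z [6, 3, 1, 0, 2, 3] [2] [6, 3, 1, 0, 2, 3] [0x52312] (0, 0) :=
    ded_z hC (by decide) (rot_z hC r10 1) (by decide +kernel) (by decide) (cons_z hC e1117 (cons_z hC e9161 (cons_z hC e8157 e45021))) (cons_z hC e1106 (cons_z hC e9161 (cons_z hC e8157 e45021)))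
  have e56637 : Eqz φ u Y Z [6, 3, 1, 0, 2, 1, 3] [1] [6, 3, 1, 0, 2, 3] [] (0, 0) :=
    ded_z hC (by decide) (rot_z hC r8 0) (by decide +kernel) (by decide) (cons_z hC e8159 e8161) e45021
  have e56638 : Eqz φ u Y Z [6, 3, 1, 0, 2, 3] [1] [6, 3, 1, 0, 2, 1, 3] [] (0, 0) :=
    rev_z hC (by decide) (by decide +kernel) (by decide) e56637
  have e57046 : Eqz φ u Y Z [6, 3, 1, 0, 2, 1, 3] [0] [6, 3, 1, 0, 2, 1, 3] [0x434234123454342312] (0, 0) :=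
    ded_z hC (by decide) (rot_inv_z hC r22 (by decide) 5) (by decide +kernel) (by decide) (cons_z hC e15638 (cons_z hC e8161 (cons_z hC e56637 (cons_z hC e50780 (cons_z hC e45022 (cons_z hC e15423 (cons_z hC e13987 (cons_z hC e8197 (cons_z hC e12048 (cons_z hC e2634 (cons_z hC e12047 (cons_z hC e8198 (cons_z hC e40153 (cons_z hC e42719 (cons_z hC e40210 (cons_z hC e45030 e56638)))))))))))))))) (cons_z hC e8161 (cons_z hC e8163 (cons_z hC e8165 (cons_z hC e16461 (cons_z hC e8166 e8164)))))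
  have e65986 : Eqz φ u Y Z [6, 3, 5, 3] [1] [6, 3, 5, 3, 1] [] (0, 0) :=
    def_z [6, 3, 5, 3] 1
  have e217068 : Eqz φ u Y Z [6, 3, 5] [1] [6, 3, 5, 1] [] (0, 0) :=
    def_z [6, 3, 5] 1
  have e217069 : Eqz φ u Y Z [6, 3, 5, 1] [1] [6, 3, 5] [] (0, 0) :=
    rev_z hC (by decide) (by decide +kernel) (by decide) e217068
  have e217070 : Eqz φ u Y Z [6, 3, 5, 1] [0] [6, 3, 5, 1, 0] [] (0, 0) :=
    def_z [6, 3, 5, 1] 0
  have e217072 : Eqz φ u Y Z [6, 3, 5, 1, 0] [2] [6, 3, 5, 1, 0, 2] [] (0, 0) :=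
    def_z [6, 3, 5, 1, 0] 2
  have e217082 : Eqz φ u Y Z [6, 3, 5, 1, 0, 2] [1] [6, 3, 1, 0, 2, 1, 3, 5, 3] [0x3454342341234543] (0, 1) :=
    ded_z hC (by decide) (rot_inv_z hC r20 (by decide) 5) (by decide +kernel) (by decide) (cons_z hC e7042 (cons_z hC e217068 (cons_z hC e217070 e217072))) (cons_z hC e8153 (cons_z hC e8155 (cons_z hC e8157 (cons_z hC e8159 (cons_z hC e15433 e8168)))))
  have e217083 : Eqz φ u Y Z [6, 3, 1, 0, 2, 1, 3, 5, 3] [1] [6, 3, 5, 1, 0, 2] [0x3454342341234543] (0, -1) :=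
    rev_z hC (by decide) (by decide +kernel) (by decide) e217082
  have e217192 : Eqz φ u Y Z [6, 3, 1, 0, 2, 1, 3] [2] [6, 3, 1, 0, 2, 1, 3, 2] [] (0, 0) :=
    def_z [6, 3, 1, 0, 2, 1, 3] 2
  have e217194 : Eqz φ u Y Z [6, 3, 1, 0, 2, 1, 3, 2] [3] [6, 3, 1, 0, 2, 1, 3, 2, 3] [] (0, 0) :=
    def_z [6, 3, 1, 0, 2, 1, 3, 2] 3
  have e217195 : Eqz φ u Y Z [6, 3, 1, 0, 2, 1, 3, 2, 3] [3] [6, 3, 1, 0, 2, 1, 3, 2] [] (0, 0) :=
    rev_z hC (by decide) (by decide +kernel) (by decide) e217194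
  have e217217 : Eqz φ u Y Z [6, 3, 1, 0, 2, 1, 3, 2, 3] [4] [6, 3, 1, 0, 2, 1, 3, 2, 3] [0x342341234543423412] (0, 0) :=
    ded_z hC (by decide) (rot_inv_z hC r22 (by decide) 7) (by decide +kernel) (by decide) (cons_z hC e8153 (cons_z hC e8198 (cons_z hC e40153 (cons_z hC e45030 (cons_z hC e56638 (cons_z hC e217192 e217194)))))) (cons_z hC e3384 (cons_z hC e72 (cons_z hC e3383 (cons_z hC e3385 (cons_z hC e3387 (cons_z hC e7676 (cons_z hC e3388 (cons_z hC e3386 (cons_z hC e6234 (cons_z hC e8153 (cons_z hC e8155 (cons_z hC e8157 (cons_z hC e8159 (cons_z hC e8161 (cons_z hC e217192 e217194)))))))))))))))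
  have e217272 : Eqz φ u Y Z [6, 3, 5, 1] [3] [6, 3, 5, 3, 1] [] (0, 0) :=
    ded_z hC (by decide) (rot_z hC r8 0) (by decide +kernel) (by decide) e217068 (cons_z hC e3387 e65986)
  have e217344 : Eqz φ u Y Z [6, 3, 5, 3, 1] [6] [6, 3, 5, 3, 1, 6] [] (0, 0) :=
    def_z [6, 3, 5, 3, 1] 6
  have e217346 : Eqz φ u Y Z [6, 3, 5, 3, 1, 6] [3] [6, 3, 5, 3, 1, 6, 3] [] (0, 0) :=
    def_z [6, 3, 5, 3, 1, 6] 3
  have e217348 : Eqz φ u Y Z [6, 3, 5, 3, 1, 6, 3] [1] [6, 3, 5, 3, 1, 6, 3, 1] [] (0, 0) :=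
    def_z [6, 3, 5, 3, 1, 6, 3] 1
  have e217350 : Eqz φ u Y Z [6, 3, 5, 3, 1, 6, 3, 1] [0] [6, 3, 5, 3, 1, 6, 3, 1, 0] [] (0, 0) :=
    def_z [6, 3, 5, 3, 1, 6, 3, 1] 0
  have e217352 : Eqz φ u Y Z [6, 3, 5, 3, 1, 6, 3, 1, 0] [2] [6, 3, 5, 3, 1, 6, 3, 1, 0, 2] [] (0, 0) :=
    def_z [6, 3, 5, 3, 1, 6, 3, 1, 0] 2
  have e217354 : Eqz φ u Y Z [6, 3, 5, 3, 1, 6, 3, 1, 0, 2] [1] [6, 3, 5, 3, 1, 6, 3, 1, 0, 2, 1] [] (0, 0) :=
    def_z [6, 3, 5, 3, 1, 6, 3, 1, 0, 2] 1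
  have e217356 : Eqz φ u Y Z [6, 3, 5, 3, 1, 6, 3, 1, 0, 2, 1] [3] [6, 3, 5, 3, 1, 6, 3, 1, 0, 2, 1, 3] [] (0, 0) :=
    def_z [6, 3, 5, 3, 1, 6, 3, 1, 0, 2, 1] 3
  have e217358 : Eqz φ u Y Z [6, 3, 5, 3, 1, 6, 3, 1, 0, 2, 1, 3] [5] [6, 3, 5, 3, 1, 6, 3, 1, 0, 2, 1, 3, 5] [] (0, 0) :=
    def_z [6, 3, 5, 3, 1, 6, 3, 1, 0, 2, 1, 3] 5
  have e217360 : Eqz φ u Y Z [6, 3, 5, 3, 1, 6, 3, 1, 0, 2, 1, 3, 5] [3] [6, 3, 5, 3, 1, 6, 3, 1, 0, 2, 1, 3, 5, 3] [] (0, 0) :=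
    def_z [6, 3, 5, 3, 1, 6, 3, 1, 0, 2, 1, 3, 5] 3
  have e217362 : Eqz φ u Y Z [6, 3, 5, 3, 1, 6, 3, 1, 0, 2, 1, 3, 5, 3] [5] [6, 3, 5, 3, 1, 6, 3, 1, 0, 2, 1, 3, 5, 3, 5] [] (0, 0) :=
    def_z [6, 3, 5, 3, 1, 6, 3, 1, 0, 2, 1, 3, 5, 3] 5
  have e217364 : Eqz φ u Y Z [6, 3, 5, 3, 1, 6, 3, 1, 0, 2, 1, 3, 5, 3, 5] [4] [6, 3, 5, 3, 1, 6, 3, 1, 0, 2, 1, 3, 5, 3, 5, 4] [] (0, 0) :=
    def_z [6, 3, 5, 3, 1, 6, 3, 1, 0, 2, 1, 3, 5, 3, 5] 4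
  have e217366 : Eqz φ u Y Z [6, 3, 5, 3, 1, 6, 3, 1, 0, 2, 1, 3, 5, 3, 5, 4] [1] [6, 3, 5, 3, 1, 6, 3, 1, 0, 2, 1, 3, 5, 3, 5, 4, 1] [] (0, 0) :=
    def_z [6, 3, 5, 3, 1, 6, 3, 1, 0, 2, 1, 3, 5, 3, 5, 4] 1
  have e217368 : Eqz φ u Y Z [6, 3, 5, 3, 1, 6, 3, 1, 0, 2, 1, 3, 5, 3, 5, 4, 1] [0] [6, 3, 5, 3, 1, 6, 3, 1, 0, 2, 1, 3, 5, 3, 5, 4, 1, 0] [] (0, 0) :=
    def_z [6, 3, 5, 3, 1, 6, 3, 1, 0, 2, 1, 3, 5, 3, 5, 4, 1] 0
  have e217370 : Eqz φ u Y Z [6, 3, 5, 3, 1, 6, 3, 1, 0, 2, 1, 3, 5, 3, 5, 4, 1, 0] [2] [6, 3, 5, 3, 1, 6, 3, 1, 0, 2, 1, 3, 5, 3, 5, 4, 1, 0, 2] [] (0, 0) :=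
    def_z [6, 3, 5, 3, 1, 6, 3, 1, 0, 2, 1, 3, 5, 3, 5, 4, 1, 0] 2
  have e217372 : Eqz φ u Y Z [6, 3, 5, 3, 1, 6, 3, 1, 0, 2, 1, 3, 5, 3, 5, 4, 1, 0, 2] [1] [6, 3, 5, 3, 1, 6, 3, 1, 0, 2, 1, 3, 5, 3, 5, 4, 1, 0, 2, 1] [] (0, 0) :=
    def_z [6, 3, 5, 3, 1, 6, 3, 1, 0, 2, 1, 3, 5, 3, 5, 4, 1, 0, 2] 1
  have e217374 : Eqz φ u Y Z [6, 3, 5, 3, 1, 6, 3, 1, 0, 2, 1, 3, 5, 3, 5, 4, 1, 0, 2, 1] [3] [6, 3, 5, 3, 1, 6, 3, 1, 0, 2, 1, 3, 5, 3, 5, 4, 1, 0, 2, 1, 3] [] (0, 0) :=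
    def_z [6, 3, 5, 3, 1, 6, 3, 1, 0, 2, 1, 3, 5, 3, 5, 4, 1, 0, 2, 1] 3
  have e217376 : Eqz φ u Y Z [6, 3, 5, 3, 1, 6, 3, 1, 0, 2, 1, 3, 5, 3, 5, 4, 1, 0, 2, 1, 3] [5] [6, 3, 5, 3, 1, 6, 3, 1, 0, 2, 1, 3, 5, 3, 5, 4, 1, 0, 2, 1, 3, 5] [] (0, 0) :=
    def_z [6, 3, 5, 3, 1, 6, 3, 1, 0, 2, 1, 3, 5, 3, 5, 4, 1, 0, 2, 1, 3] 5
  have e217378 : Eqz φ u Y Z [6, 3, 5, 3, 1, 6, 3, 1, 0, 2, 1, 3, 5, 3, 5, 4, 1, 0, 2, 1, 3, 5] [3] [6, 3, 5, 3, 1, 6, 3, 1, 0, 2, 1, 3, 5, 3, 5, 4, 1, 0, 2, 1, 3, 5, 3] [] (0, 0) :=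
    def_z [6, 3, 5, 3, 1, 6, 3, 1, 0, 2, 1, 3, 5, 3, 5, 4, 1, 0, 2, 1, 3, 5] 3
  have e217380 : Eqz φ u Y Z [6, 3, 5, 3, 1, 6, 3, 1, 0, 2, 1, 3, 5, 3, 5, 4, 1, 0, 2, 1, 3, 5, 3] [4] [6, 3, 5, 3, 1, 6, 3, 1, 0, 2, 1, 3, 5, 3, 5, 4, 1, 0, 2, 1, 3, 5, 3, 4] [] (0, 0) :=
    def_z [6, 3, 5, 3, 1, 6, 3, 1, 0, 2, 1, 3, 5, 3, 5, 4, 1, 0, 2, 1, 3, 5, 3] 4
  have e217404 : Eqz φ u Y Z [6, 3, 5, 3, 1, 6, 3, 1, 0, 2, 1, 3, 5, 3, 5, 4, 1, 0, 2, 1, 3, 5, 3, 4] [2] [6, 3, 5, 1] [0x4342341234543423121] (0, -1) :=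
    ded_z hC (by decide) (rot_inv_z hC r21 (by decide) 14) (by decide +kernel) (by decide) (cons_z hC e217068 (cons_z hC e217272 (cons_z hC e217344 (cons_z hC e217346 (cons_z hC e217348 (cons_z hC e217350 (cons_z hC e217352 (cons_z hC e217354 (cons_z hC e217356 (cons_z hC e217358 (cons_z hC e217360 (cons_z hC e217362 (cons_z hC e217364 (cons_z hC e217366 (cons_z hC e217368 (cons_z hC e217370 (cons_z hC e217372 (cons_z hC e217374 (cons_z hC e217376 (cons_z hC e217378 e217380)))))))))))))))))))) (cons_z hC e7064 (cons_z hC e7097 e217068))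
  have e217405 : Eqz φ u Y Z [6, 3, 5, 1] [2] [6, 3, 5, 3, 1, 6, 3, 1, 0, 2, 1, 3, 5, 3, 5, 4, 1, 0, 2, 1, 3, 5, 3, 4] [0x4342341234543423121] (0, 1) :=
    rev_z hC (by decide) (by decide +kernel) (by decide) e217404
  have e217998 : Eqz φ u Y Z [6, 3, 5, 1, 0, 2] [0] [6, 3, 5, 3, 1, 6, 3, 1, 0, 2, 1, 3, 5, 3, 5, 4, 1, 0, 2, 1, 3, 5, 3, 4] [0x4342341234543423121] (0, 3) :=
    ded_z hC (by decide) (rot_z hC r21 0) (by decide +kernel) (by decide) (cons_z hC e3 (cons_z hC e9 (cons_z hC e3383 (cons_z hC e8153 (cons_z hC e8198 (cons_z hC e15424 (cons_z hC e8159 (cons_z hC e8161 (cons_z hC e8163 (cons_z hC e8165 e217083)))))))))) (cons_z hC e16 (cons_z hC e105 (cons_z hC e1104 (cons_z hC e1106 (cons_z hC e1116 (cons_z hC e1105 (cons_z hC e3383 (cons_z hC e3385 (cons_z hC e3387 (cons_z hC e3396 (cons_z hC e7097 (cons_z hC e217068 e217405))))))))))))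
  have e238806 : Eqz φ u Y Z [6, 3, 1, 0, 2, 1, 3, 2, 3] [2] [6, 3, 1, 0, 2, 1, 3, 2, 3] [0x4342341234543423121] (0, 0) :=
    ded_z hC (by decide) (rot_z hC r10 0) (by decide +kernel) (by decide) (cons_z hC e15875 (cons_z hC e15638 (cons_z hC e8161 (cons_z hC e217192 e217194)))) (cons_z hC e8161 (cons_z hC e217192 e217194))
  have e238871 : Eqz φ u Y Z [6, 3, 1, 0, 2, 1, 3, 2, 3] [0] [6, 3, 1, 0, 2, 1, 3, 2, 3] [0x434234123454342312] (0, 0) :=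
    ded_z hC (by decide) (rot_inv_z hC r10 (by decide) 3) (by decide +kernel) (by decide) (cons_z hC e15638 (cons_z hC e8161 (cons_z hC e217192 (cons_z hC e217194 e238806)))) (cons_z hC e8161 (cons_z hC e217192 e217194))
  have e239094 : Eqz φ u Y Z [6, 3, 1, 0, 2, 1, 3, 5] [5] [6, 3, 1, 0, 2, 1, 3, 2] [0x434234123454342312] (0, 0) :=
    ded_z hC (by decide) (rot_z hC r15 0) (by decide +kernel) (by decide) e8163 (cons_z hC e57046 e217192)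
  have e239095 : Eqz φ u Y Z [6, 3, 1, 0, 2, 1, 3, 2] [6] [6, 3, 1, 0, 2, 1, 3, 5] [0x434234123454342312] (0, 0) :=
    rev_z hC (by decide) (by decide +kernel) (by decide) e239094
  have e239677 : Eqz φ u Y Z [6, 3, 1, 0, 2, 1, 3, 2] [1] [6, 3, 1, 0, 2, 1, 3, 2] [0x52312] (0, 0) :=
    ded_z hC (by decide) (rot_z hC r7 0) (by decide +kernel) (by decide) (cons_z hC e56637 (cons_z hC e50780 (cons_z hC e56638 e217192))) e217192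
  have e276335 : Eqz φ u Y Z [6, 3, 1, 0, 2, 1, 3, 2, 3] [1] [6, 3, 1, 0, 2, 1, 3, 2, 3] [0x52312] (0, 0) :=
    ded_z hC (by decide) (rot_z hC r8 0) (by decide +kernel) (by decide) (cons_z hC e239677 e217194) e217194
  have e276586 : Eqz φ u Y Z [6, 3, 1, 0, 2, 1, 3, 2, 3] [] [6, 3, 1, 0, 2, 1, 3, 2, 3] [] (0, -3) :=
    ded_z hC (by decide) (rot_inv_z hC r21 (by decide) 9) (by decide +kernel) (by decide) (cons_z hC e217217 (cons_z hC e238806 (cons_z hC e276335 (cons_z hC e238806 (cons_z hC e238871 (cons_z hC e276335 (cons_z hC e217195 (cons_z hC e239095 (cons_z hC e8165 (cons_z hC e217083 (cons_z hC e217998 (cons_z hC e217404 (cons_z hC e217069 (cons_z hC e3387 (cons_z hC e17005 (cons_z hC e21521 (cons_z hC e22844 (cons_z hC e3396 (cons_z hC e217068 (cons_z hC e217070 (cons_z hC e217072 (cons_z hC e217082 (cons_z hC e8166 (cons_z hC e239094 e217194))))))))))))))))))))))))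 (nil_z [6, 3, 1, 0, 2, 1, 3, 2, 3])
  exact closed_z hC (by decide +kernel) e276586

end Cfsg.Agent.Lib.ThMult97.Coset
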