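import Mathlib

/-!
If `x⁷ = t³ = 1`, `t⁻¹ x t = x²`, `t u = u t⁻¹`, `u² = q` and `(u x)³ = q d` with `q` an involution
commuting with `u, x, t` and `d` central, then `d⁴ = 1`.
-/

set_option autoImplicit false

namespace Cfsg.Agent.Lib.ThMult97

variable {G : Type*} [Group G]

theorem six_central {u x t q d : G} (hx : x ^ 7 = 1) (hts : t⁻¹ * x * t = x ^ 2) (htu : t * u = u * t⁻¹)
    (huu : u * u = q) (hq : q * q = 1) (hqx : Commute q x) (hqt : Commute q t)
    (hd : ∀ g : G, Commute d g) (h6 : (u * x) ^ 3 = q * d) (ht : t ^ 3 = 1) : d ^ 4 = 1 := by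
  have hqu : Commute q u := by rw [← huu]; exact (Commute.refl u).mul_left (Commute.refl u)
  have hui : u⁻¹ = q * u := by
    refine inv_eq_of_mul_eq_one_right ?_
    rw [← mul_assoc, ← hqu.eq, mul_assoc, huu, hq]
  have hd1 : ∀ g : G, d * g = g * d := fun g => (hd g).eq
  have red : ∀ n m : ℕ, n % 7 = m % 7 → x ^ n = x ^ m := fun n m h => by
    rw [pow_eq_pow_mod n hx, h, ← pow_eq_pow_mod m hx]
  have xi : ∀ n m : ℕ, (n + m) % 7 = 0 → (x ^ n)⁻¹ = x ^ m := fun n m h => by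
    refine inv_eq_of_mul_eq_one_right ?_
    rw [← pow_add, red (n + m) 0 (by omega), pow_zero]
  have ht2 : t * t = t⁻¹ := eq_inv_of_mul_eq_one_left (by rw [← pow_two, ← pow_succ, ht])
  -- moving `t` across powers of `x`
  have tx' : ∀ n : ℕ, t * x ^ n = x ^ (4 * n) * t := fun n => by
    have e : t⁻¹ * x ^ (4 * n) * t = x ^ n := by
      have h := conj_pow (i := 4 * n) (a := t⁻¹) (b := x)
      rw [inv_inv] at h
      rw [← h, hts, ← pow_mul]
      exact red _ _ (by omega)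
    calc t * x ^ n = t * (t⁻¹ * x ^ (4 * n) * t) := by rw [e]
      _ = _ := by group
  have txi : ∀ n : ℕ, t⁻¹ * x ^ n = x ^ (2 * n) * t⁻¹ := fun n => by
    have e := tx' (2 * n)
    rw [red (4 * (2 * n)) n (by omega)] at e
    calc t⁻¹ * x ^ n = t⁻¹ * (x ^ n * t) * t⁻¹ := by group
      _ = _ := by rw [← e]; group
  have tx_ : ∀ (n : ℕ) (g : G), t * (x ^ n * g) = x ^ (4 * n) * (t * g) := fun n g => by
    rw [← mul_assoc, tx', mul_assoc]
  have tu_ : ∀ g : G, t * (u * g) = u * (t⁻¹ * g) := fun g => by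
    rw [← mul_assoc, htu, mul_assoc]
  -- an equation and its conjugate by `t`
  have step : ∀ (n i j k : ℕ), u * x ^ n * u = x ^ i * u * x ^ j * t ^ k * d →
      u * x ^ (2 * n) * u = x ^ (4 * i) * u * x ^ (16 * j) * t ^ (k + 1) * d := fun n i j k h => by
    have l : (t * u * t⁻¹) * (t * x ^ n * t⁻¹) * (t * u * t⁻¹) = u * x ^ (2 * n) * u := by
      have htu2 : t * u * t⁻¹ = u * t := by rw [htu, mul_assoc, ← mul_inv_rev, ht2, inv_inv]
      rw [htu2, tx', mul_assoc (x ^ _) t, mul_inv_cancel, mul_one]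
      simp only [mul_assoc]
      rw [tx_, tu_, inv_mul_cancel, mul_one, red (4 * (4 * n)) (2 * n) (by omega)]
    rw [← l, show t * u * t⁻¹ * (t * x ^ n * t⁻¹) * (t * u * t⁻¹) = t * (u * x ^ n * u) * t⁻¹ by group, h]
    simp only [mul_assoc, hd1, tx_, tu_]
    rw [show t⁻¹ * (x ^ j * (t ^ k * (t⁻¹ * d))) = (t⁻¹ * x ^ j) * (t ^ k * (t⁻¹ * d)) by group, txi,
      red (16 * j) (2 * j) (by omega), mul_assoc]
    congr 3
    rw [← mul_assoc, ← mul_assoc]
    congr 1
    have e : t⁻¹ * t⁻¹ = t := by rw [← mul_inv_rev, ht2, inv_inv]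
    rw [((Commute.refl t).inv_left.pow_right k).eq, mul_assoc, e, pow_succ]
  have h1 : u * x ^ 1 * u = x ^ 6 * u * x ^ 6 * t ^ 0 * d := by
    have e : u * x * u = (u * x) ^ 3 * x⁻¹ * u⁻¹ * x⁻¹ := by simp [pow_succ, mul_assoc]
    have hxi : x⁻¹ = x ^ 6 := by simpa using xi 1 6 (by norm_num)
    rw [pow_one, pow_zero, mul_one, e, h6, hui, hxi]
    simp only [mul_assoc, hd1]
    rw [← mul_assoc (x ^ 6) q, ← (hqx.pow_right 6).eq]
    simp only [← mul_assoc, hq, one_mul]
  have h2 := step 1 6 6 0 h1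
  have h4 := step 2 (4 * 6) (16 * 6) (0 + 1) h2
  rw [red (4 * 6) 3 (by norm_num), red (16 * 6) 5 (by norm_num), pow_one,
    show 2 * 1 = 2 from rfl] at h2
  rw [red (4 * (4 * 6)) 5 (by norm_num), red (16 * (16 * 6)) 3 (by norm_num),
    show t ^ (0 + 1 + 1) = t⁻¹ by simp [pow_succ, ht2],
    show 2 * 2 = 4 from rfl] at h4
  rw [pow_zero, mul_one] at h1
  -- two values of `u x³ u`
  have e1 : u * x ^ 3 * u = q * (x ^ 2 * u * x ^ 4 * t⁻¹) * (d * d * d) := by
    calc u * x ^ 3 * u = u * x ^ 1 * (q * q) * x ^ 2 * u := by rw [pow_succ' x 2, hq]; group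
      _ = (u * x ^ 1 * u) * q * (u * x ^ 2 * u) := by
        conv_rhs => rw [mul_assoc (u * x ^ 1) u q, ← hqu.eq, ← mul_assoc (u * x ^ 1) q u]
        simp only [mul_assoc]
        rw [← mul_assoc u u, huu]
      _ = x ^ 6 * (u * (x ^ 6 * (q * x ^ 3))) * u * x ^ 5 * t * d * d := by
        have hdd : ∀ a b : G, a * d * q * (b * d) = a * q * b * d * d := fun a b => by
          rw [mul_assoc a d q, hd1 q, ← mul_assoc a q d, mul_assoc (a * q) d (b * d),
            ← mul_assoc d b d, hd1 b]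
          simp only [mul_assoc]
        rw [h1, h2, hdd]; simp only [mul_assoc]
      _ = q * x ^ 6 * (u * x ^ 2 * u) * x ^ 5 * t * d * d := by
        rw [← mul_assoc (x ^ 6) q, ← (hqx.pow_right 6).eq, mul_assoc q, ← pow_add,
          red (6 + 3) 2 (by norm_num), ← mul_assoc u q, ← hqu.eq, mul_assoc q, ← mul_assoc (x ^ 6) q,
          ← (hqx.pow_right 6).eq]
        simp only [mul_assoc]
      _ = q * (x ^ 2 * (u * (x ^ 5 * (t * (x ^ 5 * t))))) * (d * d * d) := by
        have hdd : ∀ a b c c' : G, a * (b * d) * c * c' * d * d = a * b * c * c' * (d * d * d) :=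
          fun a b c c' => by
            rw [mul_assoc (a * (b * d)) c c', ← mul_assoc a b d, mul_assoc (a * b) d (c * c'),
              hd1 (c * c')]
            simp only [mul_assoc]
        rw [h2, hdd]
        simp only [mul_assoc]
        rw [← mul_assoc (x ^ 6) (x ^ 3), ← pow_add, red (6 + 3) 2 (by norm_num)]
      _ = _ := by
        rw [tx_, ht2, ← mul_assoc (x ^ 5) (x ^ _), ← pow_add, red (5 + 4 * 5) 4 (by norm_num)]
        simp only [mul_assoc]
  have e2 : u * x ^ 3 * u = q * (x ^ 2 * u * x ^ 4 * t⁻¹) * d⁻¹ := by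
    have e := congrArg (·⁻¹) h4
    simp only [mul_inv_rev, inv_inv] at e
    rw [xi 4 3 (by norm_num), xi 5 2 (by norm_num), xi 3 4 (by norm_num), hui] at e
    have hl : q * u * (x ^ 3 * (q * u)) = u * x ^ 3 * u := by
      calc q * u * (x ^ 3 * (q * u)) = q * (u * ((x ^ 3 * q) * u)) := by group
        _ = q * (u * q) * (x ^ 3 * u) := by rw [← (hqx.pow_right 3).eq]; group
        _ = _ := by rw [← hqu.eq, ← mul_assoc q q, hq, one_mul, mul_assoc]
    rw [hl] at e
    have hdi : ∀ g : G, d⁻¹ * g = g * d⁻¹ := fun g => (hd g).inv_left.eq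
    rw [e, hdi]
    congr 1
    calc t * (x ^ 4 * (q * u * x ^ 2)) = t * ((x ^ 4 * q) * (u * x ^ 2)) := by group
      _ = (t * q) * (x ^ 4 * (u * x ^ 2)) := by rw [← (hqx.pow_right 4).eq]; group
      _ = q * (x ^ (4 * 4) * (u * (t⁻¹ * x ^ 2))) := by rw [← hqt.eq, mul_assoc, tx_, tu_]
      _ = _ := by
        rw [txi, red (4 * 4) 2 (by norm_num), show 2 * 2 = 4 from rfl]; simp only [mul_assoc]
  have h := e2.symm.trans e1
  rw [mul_right_inj] at h
  calc d ^ 4 = d * (d * d * d) := by simp [pow_succ, mul_assoc]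
    _ = 1 := by rw [← h, mul_inv_cancel]

end Cfsg.Agent.Lib.ThMult97
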