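import Cfsg.Agent.Lib.ThMult97.Square
import Cfsg.Agent.Lib.ThMult97.Group4
import Cfsg.Agent.Lib.ThMult97.Six

/-!
Lifts of the eight generators with all relators up to number 36, for kernels of order two and three
(and any prime).
-/

set_option autoImplicit false
set_option linter.unusedSimpArgs false

namespace Cfsg.Agent.Lib.ThMult97

open Cfsg Cfsg.Spor Cfsg.Agent.Lib
open Cfsg.Agent.Lib.ThK83 (Kbar rep)
open Cfsg.Agent.Lib.Th23 (ThCover)
open Cfsg.Agent.Lib.Th23.Seventh (wd lval inv_small)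

theorem KRel.map {G H : Type*} [Group G] [Group H] (f : G →* H) {a b c d e s t : G}
    (h : KRel a b c d e s t) : KRel (f a) (f b) (f c) (f d) (f e) (f s) (f t) := by
  obtain ⟨h1, h2, h3, h4, h5, h6, h7, h8, h9, h10, h11, h12, h13, h14, h15, h16, h17, h18, h19,
    h20, h21, h22, h23, h24, h25, h26, h27⟩ := h
  constructor <;> simp only [← map_mul, ← map_inv, ← map_pow] <;> rw [← map_one f] <;>
    first
      | exact congrArg f h1 | exact congrArg f h2 | exact congrArg f h3 | exact congrArg f h4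
      | exact congrArg f h5 | exact congrArg f h6 | exact congrArg f h7 | exact congrArg f h8
      | exact congrArg f h9 | exact congrArg f h10 | exact congrArg f h11 | exact congrArg f h12
      | exact congrArg f h13 | exact congrArg f h14 | exact congrArg f h15 | exact congrArg f h16
      | exact congrArg f h17 | exact congrArg f h18 | exact congrArg f h19 | exact congrArg f h20
      | exact congrArg f h21 | exact congrArg f h22 | exact congrArg f h23 | exact congrArg f h24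
      | exact congrArg f h25 | exact congrArg f h26 | exact congrArg f h27

variable (Z : ThCover) (hdvd : 90745943887872000 ∣ Nat.card Th)
include Z hdvd

/-- the relators of groups 1-3 in `Kbar` -/
theorem kRel_bar : KRel (rep.f 0) (rep.f 1) (rep.f 2) (rep.f 3) (rep.f 4) (rep.f 5) (rep.f 7) := by
  have hi := kMap_injective Z hdvd
  have R := kRel_th
  have m := thMap_K
  constructor <;> apply hi <;>
    simp only [map_mul, map_inv, map_pow, map_one, m.ha, m.hb, m.hc, m.hd, m.he, m.hs, m.ht]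
  exacts [R.aa, R.bb, R.cc, R.dd, R.ee, R.ab, R.ae, R.bc, R.bd, R.be, R.acd, R.ce, R.de, R.bcde,
    R.ss, R.sa, R.sb, R.sc, R.sd, R.es, R.tt, R.ta, R.tb, R.tc, R.td, R.te, R.ts]

variable {Γ : Type*} [Group Γ] {σ : Γ →* Th} {p : ℕ} (h : PExt σ p) (hCA : CentA)
include h hCA

/-- lifts with exact `u² = a c` and `(u s)³ = a c` -/
theorem exists_lifts : ∃ (Φ : Kbar →* Γ) (U : Γ), Lifts σ p Φ U ∧ U * U = Φ (rep.ev [0x31]) ∧
    (U * Φ (rep.f 5)) ^ 3 = Φ (rep.ev [0x31]) := by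
  obtain ⟨Φ, hΦ, hT⟩ := exists_kHom_t h
  obtain ⟨U₀, hU₀⟩ := h.surj (gn .u)
  have mk : ∀ U, σ U = gn .u → Lifts σ p Φ U := fun U hU => ⟨h, hΦ, hU, hT U hU⟩
  have L₀ := mk U₀ hU₀
  have hq : gn .u * gn .u = kMap (rep.ev [0x31]) :=
    Th23.u_sq_ev thMap_K (rels_th [27]) (by simp)
  have h36 : (gn .u * gn .s) ^ 3 = kMap (rep.ev [0x31]) := by
    have e := Th23.rel_get (rels_th [36]) (i := 36) (by simp) (r := _) rfl
    simp only [map_mul, map_inv, map_pow, FreeGroup.lift_apply_of, Th23.thVal] at e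
    rw [← mul_inv_eq_one.1 e, ← hq, Th23.u_sq (rels_th [27]) (by simp)]
  have h6σ : ∀ U, σ U = gn .u → σ ((U * Φ (rep.f 5)) ^ 3) = σ (Φ (rep.ev [0x31])) := fun U hU => by
    rw [map_pow, map_mul, hU, L₀.map_phi, L₀.map_phi, thMap_K.hs, h36]
  by_cases hp : p = 2
  · obtain ⟨δ, hδ, e6, hδp⟩ := h.exists_eq_mul (h6σ U₀ hU₀)
    have hU : σ (U₀ * δ) = gn .u := by rw [map_mul, hU₀, hδ, mul_one]
    rw [hp, pow_two] at hδp
    have L := mk _ hU
    refine ⟨Φ, U₀ * δ, L, L.u_sq_two Z hdvd hCA hp, ?_⟩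
    rw [mul_assoc U₀, ← h.comm hδ (Φ (rep.f 5)), ← mul_assoc, h.mul_pow_ker _ hδ, e6,
      show δ ^ 3 = δ * δ * δ by simp [pow_succ], hδp, one_mul, mul_assoc, hδp, mul_one]
  · obtain ⟨α, hα, e2, hαp⟩ := h.exists_eq_mul (x := U₀ * U₀) (y := Φ (rep.ev [0x31]))
      (by rw [map_mul, hU₀, L₀.map_phi, hq])
    obtain ⟨m, hm⟩ := h.prime.eq_two_or_odd'.resolve_left hp
    have hm' : σ (α ^ m) = 1 := by rw [map_pow, hα, one_pow]
    have hU : σ (U₀ * α ^ m) = gn .u := by rw [map_mul, hU₀, hm', mul_one]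
    have L := mk _ hU
    have huu : (U₀ * α ^ m) * (U₀ * α ^ m) = Φ (rep.ev [0x31]) := by
      rw [show U₀ * α ^ m * (U₀ * α ^ m) = U₀ * (α ^ m * U₀) * α ^ m by group, ← h.comm hm' U₀,
        show U₀ * (U₀ * α ^ m) * α ^ m = U₀ * U₀ * (α ^ m * α ^ m) by group, e2, mul_assoc,
        ← pow_add, ← pow_succ', show m + m + 1 = p by omega, hαp, mul_one]
    refine ⟨Φ, U₀ * α ^ m, L, huu, ?_⟩
    obtain ⟨δ, hδ, e6, -⟩ := h.exists_eq_mul (h6σ _ hU)
    have R := (kRel_bar Z hdvd).map Φ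
    have ev31 : Φ (rep.ev [0x31]) * Φ (rep.ev [0x31]) = 1 := by
      rw [← map_mul, ← ThK83.rep.ev_append, ThK83.rep.eq_of_same ThK83.base_lt ThK83.baseInj
        (show ThK83.tabs.same ThK83.base ([0x31] ++ [0x31]) [] = true by decide +kernel),
        ThK83.rep.ev_nil, map_one]
    have cK : ∀ (w : List ℕ) (l : ℕ), ThK83.decode w = [l] →
        ThK83.tabs.same ThK83.base ([0x31] ++ w) (w ++ [0x31]) = true →
        Commute (Φ (rep.ev [0x31])) (Φ (rep.f l)) := fun w l hw hs => by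
      have := congrArg Φ (ThK83.rep.eq_of_same ThK83.base_lt ThK83.baseInj hs)
      rw [ThK83.rep.ev_append, ThK83.rep.ev_append, map_mul, map_mul] at this
      have e : rep.ev w = rep.f l := by rw [ThK83.Rep.ev, hw]; simp
      rwa [e] at this
    have htu : Φ (rep.f 7) * (U₀ * α ^ m) = (U₀ * α ^ m) * (Φ (rep.f 7))⁻¹ := by
      rw [← L.t_inv]; group
    have h4 : δ ^ 4 = 1 := six_central R.ss (mul_inv_eq_one.1 R.ts) htu huu ev31
      (cK [6] 5 (by decide +kernel) (by decide +kernel))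
      (cK [8] 7 (by decide +kernel) (by decide +kernel))
      (fun g => (h.comm hδ g).symm) e6 R.tt
    rw [e6, h.eq_one_of_coprime hδ h4
      (Nat.Coprime.pow_left 2 ((Nat.coprime_primes Nat.prime_two h.prime).2 (Ne.symm hp))), mul_one]

/-- lifts of the eight generators with the relators up to number 36 -/
theorem exists_rels : ∃ A B C D E S T U : Γ, σ A = gn .a ∧ σ B = gn .b ∧ σ C = gn .c ∧
    σ D = gn .d ∧ σ E = gn .e ∧ σ S = gn .s ∧ σ T = gn .t ∧ σ U = gn .u ∧
    Th23.RelsHold Th23.upperIdx A B C D E S T U := by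
  obtain ⟨Φ, U, L, huu, h36⟩ := exists_lifts Z hdvd h hCA
  have m : Th23.KMaps Φ (Φ (rep.f 0)) (Φ (rep.f 1)) (Φ (rep.f 2)) (Φ (rep.f 3)) (Φ (rep.f 4))
      (Φ (rep.f 5)) (Φ (rep.f 7)) := ⟨rfl, rfl, rfl, rfl, rfl, rfl, rfl⟩
  have R := (kRel_bar Z hdvd).map Φ
  have mt := thMap_K
  have hd1 : ThK83.decode [1] = [0] ∧ ThK83.decode [3] = [2] ∧ ThK83.decode [5] = [4] ∧
      ThK83.decode [0x31] = [0, 2] ∧ ThK83.decode [0x52312] = [1, 0, 2, 1, 4] ∧
      ThK83.decode [0x2312] = [1, 0, 2, 1] ∧ ThK83.decode [0x77566] = [5, 5, 4, 6, 6] := by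
    decide +kernel
  obtain ⟨d1, d3, d5, d31, dbe, db, ds⟩ := hd1
  set A := Φ (rep.f 0) with hA
  set B := Φ (rep.f 1) with hB
  set C := Φ (rep.f 2) with hC
  set D := Φ (rep.f 3) with hD
  set E := Φ (rep.f 4) with hE
  set S := Φ (rep.f 5) with hS
  set T := Φ (rep.f 7) with hT
  have ia : A⁻¹ = A := inv_of_sq (by rw [← pow_two]; exact R.aa)
  have ib : B⁻¹ = B := inv_of_sq (by rw [← pow_two]; exact R.bb)
  have ic : C⁻¹ = C := inv_of_sq (by rw [← pow_two]; exact R.cc)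
  have idd : D⁻¹ = D := inv_of_sq (by rw [← pow_two]; exact R.dd)
  have ie : E⁻¹ = E := inv_of_sq (by rw [← pow_two]; exact R.ee)
  have hq : Φ (rep.ev [0x31]) = A * C := by rw [m.ev_eq, d31]; simp [Th23.letVal]
  rw [hq] at huu h36
  have comm : ∀ {X : Γ}, X⁻¹ = X → X * U = U * X → U⁻¹ * X⁻¹ * U * X = 1 := fun {X} hi e => by
    rw [hi, mul_assoc U⁻¹ X U, e, inv_mul_cancel_left]; nth_rw 1 [← hi]; exact inv_mul_cancel X
  have r := L.rule7 hCA
  have r0 : A * U = U * A := by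
    have := r 0 (by decide)
    rw [show LyDC.nth [] tok7 0 = [1] from rfl, show LyDC.nth [] img7 0 = [1] from rfl, m.ev_eq,
      d1] at this
    simpa [Th23.letVal] using this
  have r1 : C * U = U * C := by
    have := r 1 (by decide)
    rw [show LyDC.nth [] tok7 1 = [3] from rfl, show LyDC.nth [] img7 1 = [3] from rfl, m.ev_eq,
      d3] at this
    simpa [Th23.letVal] using this
  have r2 : E * U = U * E := by
    have := r 2 (by decide)
    rw [show LyDC.nth [] tok7 2 = [5] from rfl, show LyDC.nth [] img7 2 = [5] from rfl, m.ev_eq,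
      d5] at this
    simpa [Th23.letVal] using this
  have r4 : B * A * C * B * U = U * (B * A * C * B * E) := by
    have := r 4 (by decide)
    rw [show LyDC.nth [] tok7 4 = [0x2312] from rfl, show LyDC.nth [] img7 4 = [0x23125] from rfl,
      ThK83.rep.eq_of_same ThK83.base_lt ThK83.baseInj
        (show ThK83.tabs.same ThK83.base [0x23125] [0x52312] = true by decide +kernel),
      m.ev_eq, m.ev_eq, db, dbe] at this
    simpa [Th23.letVal, mul_assoc] using this
  have r5 : S ^ 2 * E * (S ^ 2)⁻¹ * U = U * (S ^ 2 * E * (S ^ 2)⁻¹) := by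
    have := r 5 (by decide)
    rw [show LyDC.nth [] tok7 5 = [0x77566] from rfl, show LyDC.nth [] img7 5 = [0x77566] from rfl,
      m.ev_eq, ds] at this
    simpa [Th23.letVal, mul_assoc, pow_two, mul_inv_rev] using this
  have e27 : (U ^ 2) * ((A * C)⁻¹) = 1 := by rw [pow_two, huu, mul_inv_cancel]
  have e28 : U⁻¹ * A⁻¹ * U * A = 1 := comm ia r0
  have e29 : U⁻¹ * C⁻¹ * U * C = 1 := comm ic r1
  have e30 : U⁻¹ * E⁻¹ * U * E = 1 := comm ie r2
  have e32 : (U⁻¹ * (B⁻¹ * (A * C) * B)⁻¹ * U * (B⁻¹ * (A * C) * B)) * E⁻¹ = 1 := by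
    have hi : (B⁻¹ * (A * C) * B)⁻¹ = B⁻¹ * (A * C) * B := by
      refine inv_of_sq ?_
      have : ThK83.tabs.same ThK83.base ([0x2312] ++ [0x2312]) [] = true := by decide +kernel
      have e := congrArg Φ (ThK83.rep.eq_of_same ThK83.base_lt ThK83.baseInj this)
      rw [ThK83.rep.ev_append, ThK83.rep.ev_nil, map_mul, map_one, m.ev_eq, db] at e
      rw [ib]; simpa [Th23.letVal, mul_assoc] using e
    have hX : B⁻¹ * (A * C) * B = B * A * C * B := by rw [ib]; simp only [mul_assoc]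
    rw [hi, hX, mul_assoc U⁻¹ _ U, r4, inv_mul_cancel_left, ie, mul_assoc, mul_assoc,
      ← mul_assoc E]
    have e := inv_of_sq (show E * E = 1 by rw [← pow_two]; exact R.ee)
    have hcE : ThK83.tabs.same ThK83.base [0x52312, 0x52312] [] = true := by decide +kernel
    have e' := congrArg Φ (ThK83.rep.eq_of_same ThK83.base_lt ThK83.baseInj hcE)
    rw [ThK83.rep.ev_nil, map_one, show [0x52312, 0x52312] = [0x52312] ++ [0x52312] from rfl,
      ThK83.rep.ev_append, map_mul, m.ev_eq, dbe] at e'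
    simp only [Th23.letVal, List.map_cons, List.map_nil, List.prod_cons, List.prod_nil,
      List.getD_cons_zero, List.getD_cons_succ, mul_one, mul_assoc] at e' ⊢
    exact e'
  have e34 : (U⁻¹ * T * U) * ((T⁻¹)⁻¹) = 1 := by rw [L.t_inv, inv_inv, inv_mul_cancel]
  have e35 : E⁻¹ * ((S ^ 2)⁻¹ * U * (S ^ 2))⁻¹ * E * ((S ^ 2)⁻¹ * U * (S ^ 2)) = 1 := by
    rw [show E⁻¹ * ((S ^ 2)⁻¹ * U * (S ^ 2))⁻¹ * E * ((S ^ 2)⁻¹ * U * (S ^ 2)) =
      E⁻¹ * (S ^ 2)⁻¹ * U⁻¹ * ((S ^ 2 * E * (S ^ 2)⁻¹) * U) * S ^ 2 by group, r5]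
    group
  have e36 : (A * C) * (((U * S) ^ 3)⁻¹) = 1 := by rw [h36, mul_inv_cancel]
  -- the two relators with a central value
  set Y := (D * E * (U⁻¹ * D * U)) ^ 2 with hY
  set W := ((D⁻¹ * U * D)⁻¹ * (B⁻¹ * (A * C) * B)⁻¹ * (D⁻¹ * U * D) * (B⁻¹ * (A * C) * B)) *
    ((U * E * (B⁻¹ * (A * C) * B) * (D⁻¹ * U * D) * E * C)⁻¹) with hW
  have σA : σ A = gn .a := by rw [hA, L.map_phi, mt.ha]
  have σB : σ B = gn .b := by rw [hB, L.map_phi, mt.hb]
  have σC : σ C = gn .c := by rw [hC, L.map_phi, mt.hc]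
  have σD : σ D = gn .d := by rw [hD, L.map_phi, mt.hd]
  have σE : σ E = gn .e := by rw [hE, L.map_phi, mt.he]
  have σY : σ Y = 1 := by
    have e := Th23.rel_get (rels_th [31]) (i := 31) (by simp) (r := _) rfl
    simp only [map_mul, map_inv, map_pow, FreeGroup.lift_apply_of, Th23.thVal] at e
    simp only [hY, map_mul, map_inv, map_pow, σD, σE, L.map_u]; exact e
  have σW : σ W = 1 := by
    have e := Th23.rel_get (rels_th [33]) (i := 33) (by simp) (r := _) rfl
    simp only [map_mul, map_inv, map_pow, FreeGroup.lift_apply_of, Th23.thVal] at e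
    simp only [hW, map_mul, map_inv, map_pow, σA, σB, σC, σD, σE, L.map_u]; exact e
  have hC' : Coset.Cen Y W :=
    ⟨fun g => (show Commute g Y from L.ext.comm σY g).symm,
      fun g => (show Commute g W from L.ext.comm σW g).symm⟩
  have i0 := inv_small (φ := Φ) (l := 0) (by norm_num)
  have i1 := inv_small (φ := Φ) (l := 1) (by norm_num)
  have i2 := inv_small (φ := Φ) (l := 2) (by norm_num)
  have i3 := inv_small (φ := Φ) (l := 3) (by norm_num)
  have i4 := inv_small (φ := Φ) (l := 4) (by norm_num)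
  simp only [← hA, ← hB, ← hC, ← hD, ← hE] at i0 i1 i2 i3 i4
  have r15 : wd Φ U [5, 5, 2, 0] = 1 := by
    simpa only [wd, lval, List.map_cons, List.map_nil, List.prod_cons, List.prod_nil, mul_one, pow_two,
      mul_inv_rev, inv_inv, mul_assoc, ← i0, ← i1, ← i2, ← i3, ← i4] using e27
  have r16 : wd Φ U [6, 0, 5, 0] = 1 := by
    simpa only [wd, lval, List.map_cons, List.map_nil, List.prod_cons, List.prod_nil, mul_one, pow_two,
      mul_inv_rev, inv_inv, mul_assoc, ← i0, ← i1, ← i2, ← i3, ← i4] using e28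
  have r17 : wd Φ U [6, 2, 5, 2] = 1 := by
    simpa only [wd, lval, List.map_cons, List.map_nil, List.prod_cons, List.prod_nil, mul_one, pow_two,
      mul_inv_rev, inv_inv, mul_assoc, ← i0, ← i1, ← i2, ← i3, ← i4] using e29
  have r18 : wd Φ U [6, 4, 5, 4] = 1 := by
    simpa only [wd, lval, List.map_cons, List.map_nil, List.prod_cons, List.prod_nil, mul_one, pow_two,
      mul_inv_rev, inv_inv, mul_assoc, ← i0, ← i1, ← i2, ← i3, ← i4] using e30
  have r20 : wd Φ U [6, 1, 2, 0, 1, 5, 1, 0, 2, 1, 4] = 1 := by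
    simpa only [wd, lval, List.map_cons, List.map_nil, List.prod_cons, List.prod_nil, mul_one, pow_two,
      mul_inv_rev, inv_inv, mul_assoc, ← i0, ← i1, ← i2, ← i3, ← i4] using e32
  have r21 : wd Φ U [3, 6, 3, 1, 2, 0, 1, 3, 5, 3, 1, 0, 2, 1, 2, 4, 3, 6, 3, 1, 2, 0, 1, 4, 6] =
      Coset.zp Y W (0, 1) := by
    rw [show Coset.zp Y W (0, 1) = W by simp [Coset.zp], hW]
    simp only [wd, lval, List.map_cons, List.map_nil, List.prod_cons, List.prod_nil, mul_one, pow_two,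
      mul_inv_rev, inv_inv, mul_assoc, ← hA, ← hB, ← hC, ← hD, ← hE, ← i0, ← i1, ← i2, ← i3, ← i4]
  have r22 : wd Φ U [6, 0, 1, 0, 2, 1, 3, 2, 3, 4, 3, 2, 1, 0, 3, 2, 1, 3, 2, 3, 5, 3, 2, 3] = 1 := by
    have dd : ThK83.decode [0x4342341234543423121] =
        [0, 1, 0, 2, 1, 3, 2, 3, 4, 3, 2, 1, 0, 3, 2, 1, 3, 2, 3] ∧
        ThK83.decode [0x434] = [3, 2, 3] := by decide +kernel
    have hh := r 6 (by decide)
    rw [show LyDC.nth [] tok7 6 = [0x4342341234543423121] from rfl,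
      show LyDC.nth [] img7 6 = [0x434] from rfl,
      ← Th23.Seventh.wd_decode (u := U) (by decide +kernel),
      ← Th23.Seventh.wd_decode (u := U) (by decide +kernel), dd.1, dd.2] at hh
    have h2 : wd Φ U [3, 2, 3] * wd Φ U [3, 2, 3] = 1 := by
      rw [← dd.2, Th23.Seventh.wd_decode (by decide +kernel), ← map_mul, ← ThK83.rep.ev_append,
        ThK83.rep.eq_of_same ThK83.base_lt ThK83.baseInj
          (show ThK83.tabs.same ThK83.base ([0x434] ++ [0x434]) [] = true by decide +kernel),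
        ThK83.rep.ev_nil, map_one]
    rw [show [6, 0, 1, 0, 2, 1, 3, 2, 3, 4, 3, 2, 1, 0, 3, 2, 1, 3, 2, 3, 5, 3, 2, 3] =
        [6] ++ ([0, 1, 0, 2, 1, 3, 2, 3, 4, 3, 2, 1, 0, 3, 2, 1, 3, 2, 3] ++ ([5] ++ [3, 2, 3]))
        from rfl,
      Th23.Seventh.wd_append, Th23.Seventh.wd_append, Th23.Seventh.wd_append,
      show wd Φ U [5] = U by simp [wd, lval], show wd Φ U [6] = U⁻¹ by simp [wd, lval],
      ← mul_assoc (wd Φ U [0, 1, 0, 2, 1, 3, 2, 3, 4, 3, 2, 1, 0, 3, 2, 1, 3, 2, 3]), hh, mul_assoc,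
      inv_mul_cancel_left, h2]
  have r19 : wd Φ U [3, 4, 6, 3, 5, 3, 4, 6, 3, 5] = Y := by
    simp only [hY, wd, lval, List.map_cons, List.map_nil, List.prod_cons, List.prod_nil, mul_one, pow_two,
      mul_inv_rev, inv_inv, mul_assoc, ← hA, ← hB, ← hC, ← hD, ← hE, ← i0, ← i1, ← i2, ← i3, ← i4]
  have hYW : Y = 1 ∧ W = 1 := by
    by_cases hp : p = 2
    · have hY1 : Y = 1 := by
        set d₀ := gn .d with hd₀
        have e31 : (gn .d * gn .e * ((gn .u)⁻¹ * gn .d * gn .u)) ^ 2 = 1 := by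
          have e := Th23.rel_get (rels_th [31]) (i := 31) (by simp) (r := _) rfl
          simpa only [map_mul, map_inv, map_pow, FreeGroup.lift_apply_of, Th23.thVal] using e
        have hdd : d₀ * d₀ = 1 := by rw [← pow_two]; exact kRel_th.dd
        set r' := gn .e * ((gn .u)⁻¹ * gn .d * gn .u) with hr
        have hr3 : r' ^ 3 = 1 := by
          have e1 : gn .e = (gn .u)⁻¹ * gn .e * gn .u := by
            rw [mul_assoc, Th23.rule_e (rels_th [30]) (by simp), inv_mul_cancel_left]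
          have e3 : (gn .e * gn .d) ^ 3 = 1 := by
            calc (gn .e * gn .d) ^ 3 = gn .e * (gn .d * gn .e) ^ 3 * (gn .e)⁻¹ := by
                  simp [pow_succ, mul_assoc]
              _ = 1 := by rw [kRel_th.de, mul_one, mul_inv_cancel]
          rw [hr, e1, show (gn .u)⁻¹ * gn .e * gn .u * ((gn .u)⁻¹ * gn .d * gn .u) =
            (gn .u)⁻¹ * (gn .e * gn .d) * gn .u by group,
            show ((gn .u)⁻¹ * (gn .e * gn .d) * gn .u) ^ 3 =
              (gn .u)⁻¹ * (gn .e * gn .d) ^ 3 * gn .u by simp [pow_succ, mul_assoc], e3]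
          group
        rw [mul_assoc, pow_two, ← hr] at e31
        have hdr : r' * d₀ * r'⁻¹ = d₀ * r' := by
          have e5 : r' * d₀ * r' = d₀ := by
            calc r' * d₀ * r' = d₀ * d₀ * (r' * d₀ * r') := by rw [hdd, one_mul]
              _ = d₀ * (d₀ * r' * (d₀ * r')) := by simp only [mul_assoc]
              _ = d₀ := by rw [e31, mul_one]
          have e6 : r' * r' = r'⁻¹ := eq_inv_of_mul_eq_one_left (by rw [← pow_two, ← pow_succ, hr3])
          calc r' * d₀ * r'⁻¹ = r' * d₀ * r' * r' := by rw [← e6]; simp only [mul_assoc]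
            _ = _ := by rw [e5]
        have hx : σ (D * E * (U⁻¹ * D * U)) = (r'⁻¹)⁻¹ * d₀ * r'⁻¹ := by
          rw [inv_inv, hdr, hr]; simp only [map_mul, map_inv, σD, σE, L.map_u, mul_assoc]; rfl
        obtain ⟨y, hyσ, hy2⟩ := L.ext.exists_sq_one (d := D) (by rw [← pow_two]; exact R.dd)
          (x := σ (D * E * (U⁻¹ * D * U))) ⟨r'⁻¹, by rw [hx, σD]⟩
        rw [hY, L.ext.pow_eq hyσ.symm (n := 2) (by rw [hp]), pow_two, hy2]
      refine ⟨hY1, ?_⟩
      have := Coset.two_central hC' r15 r16 r17 r18 r20 r22 r21 (r19.trans hY1)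
      simp only [Coset.zp, zpow_zero, one_mul] at this
      have h3 : W ^ (3 : ℕ) = 1 := by
        rw [← inv_eq_one, ← this]; simp
      exact L.ext.eq_one_of_coprime σW h3 (by rw [hp]; decide)
    · have hc : Nat.Coprime 2 p := (Nat.coprime_primes Nat.prime_two L.ext.prime).2 (Ne.symm hp)
      obtain ⟨hy, hw⟩ := Coset.odd_central hC' r15 r16 r17 r18 r20 r22 r21
        (by rw [r19]; simp [Coset.zp])
      simp only [Coset.zp, zpow_zero, mul_one] at hy hw
      have hY1 : Y = 1 := L.ext.eq_one_of_coprime σY (n := 2) (by exact_mod_cast hy) hc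
      refine ⟨hY1, L.ext.eq_one_of_coprime σW (n := 2) ?_ hc⟩
      rw [hY1] at hw
      simp only [one_zpow, one_mul, zpow_neg, inv_eq_one] at hw
      exact_mod_cast hw
  have e31 := hYW.1
  have e33 := hYW.2
  rw [hY] at e31
  rw [hW] at e33
  refine ⟨A, B, C, D, E, S, T, U, σA, σB, σC, σD, σE, by rw [hS, L.map_phi, mt.hs],
    by rw [hT, L.map_phi, mt.ht], L.map_u, ?_⟩
  intro i hi r hr
  have hi' : i < 37 := List.mem_range.1 hi
  interval_cases i <;> obtain rfl := Option.some.inj hr <;>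
    simp only [map_mul, map_inv, map_pow, FreeGroup.lift_apply_of, Th23.thVal]
  exacts [R.aa, R.bb, R.cc, R.dd, R.ee, R.ab, R.ae, R.bc, R.bd, R.be, R.acd, R.ce, R.de, R.bcde,
    R.ss, R.sa, R.sb, R.sc, R.sd, R.es, R.tt, R.ta, R.tb, R.tc, R.td, R.te, R.ts,
    e27, e28, e29, e30, e31, e32, e33, e34, e35, e36]

end Cfsg.Agent.Lib.ThMult97
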