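import Cfsg.Agent.Lib.ThMult97.Conj

/-!
The relations 1-3 lift exactly to every central extension with kernel of prime order.
-/

set_option autoImplicit false

namespace Cfsg.Agent.Lib.ThMult97

open Cfsg Cfsg.Spor Cfsg.Agent.Lib

variable {Γ : Type*} [Group Γ] {σ : Γ →* Th} {p : ℕ}

theorem inv_of_sq {x : Γ} (hx : x * x = 1) : x⁻¹ = x := inv_eq_of_mul_eq_one_right hx

/-- a lift of `t` of order three inverted by every lift of `u` -/
theorem exists_t (h : PExt σ p) :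
    ∃ T, σ T = gn .t ∧ T ^ 3 = 1 ∧ ∀ U, σ U = gn .u → U⁻¹ * T * U = T⁻¹ := by
  have h34 : PresentedGroup.mk (coxRelators Th.edges ∪ {r | r ∈ Th.extra}) Th.extra[34] = 1 :=
    PresentedGroup.one_of_mem (Or.inr (List.getElem_mem (by decide)))
  have h5 : ((gn .u)⁻¹ * gn .t * gn .u) * ((gn .t)⁻¹)⁻¹ = 1 := h34
  have hi : ∀ {T U}, σ T = gn .t → σ U = gn .u → σ (U⁻¹ * T * U) = σ T⁻¹ := fun {T U} hT hU => by
    rw [map_mul, map_mul, map_inv, map_inv, hU, hT, mul_inv_eq_one.1 h5]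
  by_cases hp : p = 3
  · obtain ⟨T₀, hT₀⟩ := h.surj (gn .t)
    obtain ⟨U₀, hU₀⟩ := h.surj (gn .u)
    obtain ⟨z, hz, ez, hzp⟩ := h.exists_eq_mul (hi hT₀ hU₀)
    rw [hp] at hzp
    have hT : σ (T₀ * z) = gn .t := by rw [map_mul, hT₀, hz, mul_one]
    have key : U₀⁻¹ * (T₀ * z) * U₀ = (T₀ * z)⁻¹ := by
      calc U₀⁻¹ * (T₀ * z) * U₀ = U₀⁻¹ * T₀ * (z * U₀) := by group
        _ = (U₀⁻¹ * T₀ * U₀) * z := by rw [← h.comm hz U₀]; group
        _ = T₀⁻¹ * (z * z) := by rw [ez, mul_assoc]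
        _ = T₀⁻¹ * z⁻¹ := by
          rw [eq_inv_of_mul_eq_one_left (a := z * z) (b := z) (by rw [← hzp]; simp [pow_succ])]
        _ = (T₀ * z)⁻¹ := by rw [← mul_inv_rev, ← h.comm hz T₀]
    refine ⟨T₀ * z, hT, ?_, fun U hU => ?_⟩
    · have hk : σ ((T₀ * z) ^ 3) = 1 := by rw [map_pow, hT]; exact kRel_th.tt
      have e := congrArg (· ^ 3) key
      simp only [inv_pow] at e
      have := (conj_pow (i := 3) (a := U₀⁻¹) (b := T₀ * z))
      rw [inv_inv] at this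
      rw [this, mul_assoc, ← h.comm hk U₀, inv_mul_cancel_left, eq_inv_iff_mul_eq_one, ← pow_two] at e
      exact h.eq_one_of_coprime hk e (by rw [hp]; decide)
    · obtain ⟨w, hw, rfl, -⟩ := h.exists_eq_mul (hU.trans hU₀.symm)
      rw [mul_inv_rev, show w⁻¹ * U₀⁻¹ * (T₀ * z) * (U₀ * w) = w⁻¹ * ((U₀⁻¹ * (T₀ * z) * U₀) * w) by group,
        key, h.comm hw, inv_mul_cancel_left]
  · have hc : Nat.Coprime 3 p := (Nat.coprime_primes Nat.prime_three h.prime).2 (Ne.symm hp)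
    obtain ⟨T, hT, hT3⟩ := h.exists_lift (g := gn .t) kRel_th.tt hc
    refine ⟨T, hT, hT3, fun U hU => h.eq_of_pow (hi hT hU) hc ?_⟩
    have := (conj_pow (i := 3) (a := U⁻¹) (b := T))
    rw [inv_inv] at this
    rw [this, hT3, mul_one, inv_mul_cancel, inv_pow, hT3, inv_one]

/-- commuting lifts of two involutions -/
theorem comm_invol (h : PExt σ p) {D X Y : Γ} {x y : Th} (hD : σ D = gn .d) (hDD : D * D = 1)
    (hX : σ X = x) (hY : σ Y = y) (hXX : X * X = 1) (hYY : Y * Y = 1) (hxy : (x * y) ^ 2 = 1)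
    (hc : ConjD (x * y)) : Commute X Y := by
  have hx : x * x = 1 := by rw [← hX, ← map_mul, hXX, map_one]
  have hy : y * y = 1 := by rw [← hY, ← map_mul, hYY, map_one]
  refine h.prod_sq hDD hXX hYY ?_ ?_
  · rw [hX, hY]
    rw [pow_two] at hxy
    rw [eq_inv_of_mul_eq_one_left hxy, mul_inv_rev, inv_eq_of_mul_eq_one_right hx,
      inv_eq_of_mul_eq_one_right hy]
  · rw [map_mul, hX, hY, hD]; exact hc

theorem conj_four {X Y : Γ} (hX : X * X = 1) (hY : Y * Y = 1) (hc : Commute X Y) :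
    (X * Y) * (X * Y) = 1 := by
  rw [mul_assoc, ← mul_assoc Y, ← hc.eq, mul_assoc X Y Y, hY, mul_one, hX]

/-- exact lifts of the seven generators -/
theorem exists_kLift (h : PExt σ p) :
    ∃ A B C D E S T : Γ, σ A = gn .a ∧ σ B = gn .b ∧ σ C = gn .c ∧ σ D = gn .d ∧ σ E = gn .e ∧
      σ S = gn .s ∧ σ T = gn .t ∧ KRel A B C D E S T ∧ ∀ U, σ U = gn .u → U⁻¹ * T * U = T⁻¹ := by
  have R := kRel_th
  obtain ⟨T, hT, hT3, hTU⟩ := exists_t h
  have hTk : σ (T ^ 3) = 1 := by rw [hT3, map_one]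
  obtain ⟨S, hS, hts, hS7⟩ := exists_s h hTk (s₀ := gn .s) (by
    rw [hT]; exact mul_inv_eq_one.1 R.ts)
  obtain ⟨E, hE, hEE, hes⟩ := exists_e h (e₀ := gn .e) (by rw [← pow_two]; exact R.ee) hS7 (by
    rw [hS]; exact mul_inv_eq_one.1 R.es)
  obtain ⟨D, hD, hDD, hde⟩ := exists_d h (d₀ := gn .d) (by rw [← pow_two]; exact R.dd) hEE (by
    rw [hE]; exact R.de)
  obtain ⟨C₀, hC₀, hCC₀⟩ := h.exists_sq_one hDD (x := gn .c) (by rw [hD]; exact conjD_c)
  have hcd8 : σ ((C₀ * D) ^ 8) = 1 := by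
    have h1 : (gn .a) = (gn .c * gn .d) ^ 4 := mul_inv_eq_one.1 R.acd
    rw [map_pow, map_mul, hC₀, hD, show (8 : ℕ) = 4 * 2 from rfl, pow_mul, ← h1]
    exact R.aa
  set A := (C₀ * D) ^ 4 with hA'
  have hA : σ A = gn .a := by
    rw [hA', map_pow, map_mul, hC₀, hD]; exact (mul_inv_eq_one.1 R.acd).symm
  have hAA : A * A = 1 := by
    refine h.sq_one_of_four hDD (by rw [hA, hD]; exact conjD_a) ?_
    rw [hA', ← pow_mul, show 4 * 4 = 8 * 2 from rfl, pow_mul, pow_two, h.inv_sq hCC₀ hDD hcd8]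
  obtain ⟨B₀, hB₀, hBB₀⟩ := h.exists_sq_one hDD (x := gn .b) (by rw [hD]; exact conjD_b)
  obtain ⟨B, hB, hBB, hab, -⟩ := h.braid hAA hBB₀ (by rw [map_pow, map_mul, hA, hB₀]; exact R.ab)
  rw [hB₀] at hB
  obtain ⟨C, hC, hCC, hbc, z, hz, hz2, hCz⟩ := h.braid hBB hCC₀
    (by rw [map_pow, map_mul, hB, hC₀]; exact R.bc)
  rw [hC₀] at hC
  have hacd : A = (C * D) ^ 4 := by
    rw [hA', hCz, mul_assoc, ← h.comm hz D, ← mul_assoc, h.mul_pow_ker _ hz,
      show z ^ 4 = (z * z) * (z * z) by simp [pow_succ, mul_assoc], hz2, one_mul, mul_one]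
  have cbd : Commute B D := comm_invol h hD hDD hB hD hBB hDD R.bd conjD_bd
  have cbe : Commute B E := comm_invol h hD hDD hB hE hBB hEE R.be conjD_be
  have cce : Commute C E := comm_invol h hD hDD hC hE hCC hEE R.ce conjD_ce
  have cae : Commute A E := comm_invol h hD hDD hA hE hAA hEE R.ae conjD_ae
  -- the product of order eight
  have hP : (B * C * D * E) ^ 8 = 1 := by
    have hk : σ ((B * C * D * E) ^ 8) = 1 := by
      simp only [map_pow, map_mul, hB, hC, hD, hE]; exact R.bcde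
    have hQ : (C * B) * (B * C * D * E) * (C * B)⁻¹ = (B * D) * (C * E) := by
      rw [mul_inv_rev, inv_of_sq hBB, inv_of_sq hCC]
      calc C * B * (B * C * D * E) * (B * C) = C * (B * B) * C * D * (E * B) * C := by group
        _ = C * C * D * (B * E) * C := by rw [hBB, mul_one, cbe.eq]
        _ = (D * B) * (E * C) := by rw [hCC]; group
        _ = (B * D) * (C * E) := by rw [cbd.eq, cce.eq]
    have h8 : ((B * D) * (C * E)) ^ 8 = (B * C * D * E) ^ 8 := by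
      rw [← hQ, conj_pow, h.comm hk, mul_inv_cancel_right]
    have h16 : (B * C * D * E) ^ 8 * (B * C * D * E) ^ 8 = 1 := by
      rw [← h8]
      exact h.inv_sq (conj_four hBB hDD cbd) (conj_four hCC hEE cce) (by rw [h8]; exact hk)
    have := h.sq_one_of_four hDD (x := (B * C * D * E) ^ 4)
      (by rw [hD]; simp only [map_pow, map_mul, hB, hC, hD, hE]; exact conjD_bcde)
      (by rw [← pow_mul, show 4 * 4 = 8 * 2 from rfl, pow_mul, pow_two, h16])
    rw [← pow_add] at this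
    exact this
  -- `s` inverted by `d`
  have hsd : (S * D) ^ 2 = 1 := by
    have hk : σ ((S * D) ^ 2) = 1 := by rw [map_pow, map_mul, hS, hD]; exact R.sd
    set z := (S * D) ^ 2 with hz'
    have e1 : D * S * D = S⁻¹ * z := by rw [hz', pow_two]; group
    have hDi := inv_of_sq hDD
    have cT : Commute T D := h.commute_of_orders (by
      have := R.td
      rw [hT, hD]
      rw [show (gn .t)⁻¹ * (gn .d)⁻¹ * gn .t * gn .d = (gn .d * gn .t)⁻¹ * (gn .t * gn .d) by group,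
        inv_mul_eq_one] at this
      exact this.symm) (m := 3) (n := 2) (by rw [hT]; exact R.tt) (by rw [hD]; exact R.dd) (by decide)
    have cTi : T⁻¹ * D = D * T⁻¹ := cT.inv_left.eq
    have hTz : T⁻¹ * z * T = z := by rw [mul_assoc, ← h.comm hk T, inv_mul_cancel_left]
    have e2 : (S⁻¹ * z) * (S⁻¹ * z) = S⁻¹ * S⁻¹ * z := by
      calc (S⁻¹ * z) * (S⁻¹ * z) = D * S * (D * D) * S * D := by rw [← e1]; group
        _ = D * (S ^ 2) * D := by rw [hDD, mul_one]; simp [pow_two, mul_assoc]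
        _ = (D * T⁻¹) * S * (T * D) := by rw [← hts]; group
        _ = T⁻¹ * (D * S * D) * T := by rw [← cTi, cT.eq]; group
        _ = (T⁻¹ * S * T)⁻¹ * (T⁻¹ * z * T) := by rw [e1]; group
        _ = S⁻¹ * S⁻¹ * z := by rw [hts, hTz, pow_two, mul_inv_rev]
    rw [mul_assoc, ← mul_assoc z S⁻¹ z, ← h.comm hk S⁻¹] at e2
    have e3 : S⁻¹ * S⁻¹ * z * z = S⁻¹ * S⁻¹ * z := by simpa only [mul_assoc] using e2
    exact mul_eq_left.1 e3
  have comm_word : ∀ {x y : Γ}, Commute x y → x⁻¹ * y⁻¹ * x * y = 1 := fun {x y} hc => by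
    rw [show x⁻¹ * y⁻¹ * x * y = (y * x)⁻¹ * (x * y) by group, hc.eq, inv_mul_cancel]
  have com : ∀ {x y : Γ} {x₀ y₀ : Th}, σ x = x₀ → σ y = y₀ → x₀⁻¹ * y₀⁻¹ * x₀ * y₀ = 1 →
      ∀ {m n : ℕ}, x₀ ^ m = 1 → y₀ ^ n = 1 → Nat.Coprime m n → x⁻¹ * y⁻¹ * x * y = 1 :=
    fun {x y x₀ y₀} hx hy hr {m n} hm hn hc => comm_word (h.commute_of_orders (by
      rw [hx, hy]
      rw [show x₀⁻¹ * y₀⁻¹ * x₀ * y₀ = (y₀ * x₀)⁻¹ * (x₀ * y₀) by group, inv_mul_eq_one] at hr
      exact hr.symm) (m := m) (n := n) (by rw [hx]; exact hm) (by rw [hy]; exact hn) hc)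
  refine ⟨A, B, C, D, E, S, T, hA, hB, hC, hD, hE, hS, hT, ?_, hTU⟩
  exact
    { aa := by rw [pow_two]; exact hAA
      bb := by rw [pow_two]; exact hBB
      cc := by rw [pow_two]; exact hCC
      dd := by rw [pow_two]; exact hDD
      ee := by rw [pow_two]; exact hEE
      ab := hab
      ae := by rw [pow_two]; exact conj_four hAA hEE cae
      bc := hbc
      bd := by rw [pow_two]; exact conj_four hBB hDD cbd
      be := by rw [pow_two]; exact conj_four hBB hEE cbe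
      acd := by rw [← hacd, mul_inv_cancel]
      ce := by rw [pow_two]; exact conj_four hCC hEE cce
      de := hde
      bcde := hP
      ss := hS7
      sa := com hS hA R.sa R.ss R.aa (by decide)
      sb := com hS hB R.sb R.ss R.bb (by decide)
      sc := com hS hC R.sc R.ss R.cc (by decide)
      sd := hsd
      es := by rw [hes, mul_inv_cancel]
      tt := hT3
      ta := com hT hA R.ta R.tt R.aa (by decide)
      tb := com hT hB R.tb R.tt R.bb (by decide)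
      tc := com hT hC R.tc R.tt R.cc (by decide)
      td := com hT hD R.td R.tt R.dd (by decide)
      te := com hT hE R.te R.tt R.ee (by decide)
      ts := by rw [hts, mul_inv_cancel] }

theorem kRel83 {G : Type*} [Group G] {a b c d e s t : G} (h : KRel a b c d e s t) :
    ThK83.KRel a b c d e s t := by
  obtain ⟨h1, h2, h3, h4, h5, h6, h7, h8, h9, h10, h11, h12, h13, h14, h15, h16, h17, h18, h19,
    h20, h21, h22, h23, h24, h25, h26, h27⟩ := h
  have ia := ThK83.sq_of a (by rw [← pow_two, h1])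
  have ib := ThK83.sq_of b (by rw [← pow_two, h2])
  have ic := ThK83.sq_of c (by rw [← pow_two, h3])
  have id' := ThK83.sq_of d (by rw [← pow_two, h4])
  have ie := ThK83.sq_of e (by rw [← pow_two, h5])
  simp only [ThK83.KRel, ThK83.relW, List.forall_mem_cons, List.not_mem_nil, false_imp_iff,
    implies_true, and_true]
  refine ⟨?_, ?_, ?_, ?_, ?_, ?_, ?_, ?_, ?_, ?_, ?_, ?_, ?_, ?_, ?_, ?_, ?_, ?_, ?_, ?_, ?_,
    ?_, ?_, ?_, ?_, ?_, ?_⟩
  all_goals simp only [ThK83.kVal, List.map_cons, List.map_nil, List.prod_cons, List.prod_nil,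
    List.getD_cons_zero, List.getD_cons_succ, mul_one]
  all_goals simp only [pow_succ, pow_zero, one_mul, mul_inv_rev, inv_inv, ia, ib, ic, id', ie,
    mul_assoc] at *
  all_goals assumption

/-- the map of `Kbar` lifts, with the image of `t` inverted by the lifts of `u` -/
theorem exists_kHom_t (h : PExt σ p) : ∃ Φ : ThK83.Kbar →* Γ, σ.comp Φ = kMap ∧
    ∀ U, σ U = gn .u → U⁻¹ * Φ (ThK83.rep.f 7) * U = (Φ (ThK83.rep.f 7))⁻¹ := by
  obtain ⟨A, B, C, D, E, S, T, hA, hB, hC, hD, hE, hS, hT, hR, hTU⟩ := exists_kLift h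
  obtain ⟨Φ, hΦ, -⟩ := ThK83.exists_hom (kRel83 hR)
  refine ⟨Φ, MonoidHom.eq_of_eqOn_dense ThK83.closure_rep ?_, fun U hU => ?_⟩
  swap
  · rw [hΦ 7 (by decide)]; exact hTU U hU
  intro x hx
  obtain ⟨l, hl, rfl⟩ : ∃ l, l < 9 ∧ ThK83.rep.f l = x := by
    simp only [Set.mem_insert_iff, Set.mem_singleton_iff] at hx
    rcases hx with rfl | rfl | rfl | rfl | rfl | rfl | rfl
    exacts [⟨0, by decide, rfl⟩, ⟨1, by decide, rfl⟩, ⟨2, by decide, rfl⟩, ⟨3, by decide, rfl⟩,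
      ⟨4, by decide, rfl⟩, ⟨5, by decide, rfl⟩, ⟨7, by decide, rfl⟩]
  rw [MonoidHom.comp_apply, hΦ l hl, kMap_f l hl, ThK83.map_kVal σ _ _ _ _ _ _ _ hl, hA, hB, hC, hD,
    hE, hS, hT]

/-- the map of `Kbar` lifts -/
theorem exists_kHom (h : PExt σ p) : ∃ Φ : ThK83.Kbar →* Γ, σ.comp Φ = kMap :=
  (exists_kHom_t h).imp fun _ hΦ => hΦ.1

end Cfsg.Agent.Lib.ThMult97
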