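import Mathlib
import Cfsg.Prelude.Def_Spor_Th

/-!
The relations 1-3 of the presentation of the Thompson group on seven elements.
-/

set_option autoImplicit false

namespace Cfsg.Agent.Lib.ThMult97

open Cfsg.Spor

/-- relations (1)-(3) on seven elements -/
structure KRel {G : Type*} [Group G] (a b c d e s t : G) : Prop where
  aa : a ^ 2 = 1
  bb : b ^ 2 = 1
  cc : c ^ 2 = 1
  dd : d ^ 2 = 1
  ee : e ^ 2 = 1
  ab : (a * b) ^ 3 = 1
  ae : (a * e) ^ 2 = 1
  bc : (b * c) ^ 3 = 1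
  bd : (b * d) ^ 2 = 1
  be : (b * e) ^ 2 = 1
  acd : a * ((c * d) ^ 4)⁻¹ = 1
  ce : (c * e) ^ 2 = 1
  de : (d * e) ^ 3 = 1
  bcde : (b * c * d * e) ^ 8 = 1
  ss : s ^ 7 = 1
  sa : s⁻¹ * a⁻¹ * s * a = 1
  sb : s⁻¹ * b⁻¹ * s * b = 1
  sc : s⁻¹ * c⁻¹ * s * c = 1
  sd : (s * d) ^ 2 = 1
  es : (e⁻¹ * s⁻¹ * e * s) * ((s ^ 3)⁻¹ * e * s ^ 3)⁻¹ = 1
  tt : t ^ 3 = 1
  ta : t⁻¹ * a⁻¹ * t * a = 1
  tb : t⁻¹ * b⁻¹ * t * b = 1
  tc : t⁻¹ * c⁻¹ * t * c = 1
  td : t⁻¹ * d⁻¹ * t * d = 1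
  te : t⁻¹ * e⁻¹ * t * e = 1
  ts : (t⁻¹ * s * t) * (s ^ 2)⁻¹ = 1

theorem kRel_th : KRel (G := Th) (PresentedGroup.of .a) (PresentedGroup.of .b) (PresentedGroup.of .c)
    (PresentedGroup.of .d) (PresentedGroup.of .e) (PresentedGroup.of .s) (PresentedGroup.of .t) := by
  have h : ∀ i, ∀ hi : i < Th.extra.length,
      PresentedGroup.mk (coxRelators Th.edges ∪ {r | r ∈ Th.extra}) Th.extra[i] = 1 := fun i hi =>
    PresentedGroup.one_of_mem (Or.inr (List.getElem_mem hi))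
  constructor
  · exact h 0 (by decide)
  · exact h 1 (by decide)
  · exact h 2 (by decide)
  · exact h 3 (by decide)
  · exact h 4 (by decide)
  · exact h 5 (by decide)
  · exact h 6 (by decide)
  · exact h 7 (by decide)
  · exact h 8 (by decide)
  · exact h 9 (by decide)
  · exact h 10 (by decide)
  · exact h 11 (by decide)
  · exact h 12 (by decide)
  · exact h 13 (by decide)
  · exact h 14 (by decide)
  · exact h 15 (by decide)
  · exact h 16 (by decide)
  · exact h 17 (by decide)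
  · exact h 18 (by decide)
  · exact h 19 (by decide)
  · exact h 20 (by decide)
  · exact h 21 (by decide)
  · exact h 22 (by decide)
  · exact h 23 (by decide)
  · exact h 24 (by decide)
  · exact h 25 (by decide)
  · exact h 26 (by decide)

end Cfsg.Agent.Lib.ThMult97
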