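import Cfsg.Agent.Lib.ThMult97.Basic

/-!
Lifts of involutions and of elements of coprime orders.
-/

set_option autoImplicit false

namespace Cfsg.Agent.Lib.ThMult97

namespace PExt

variable {Γ G : Type*} [Group Γ] [Group G] {σ : Γ →* G} {p : ℕ}

theorem ker_pow_eq_one (h : PExt σ p) {x y z : Γ} (hz : σ z = 1) (he : x * y = y * x * z) {n : ℕ}
    (hn : σ (x ^ n) = 1) : z ^ n = 1 := by
  have h1 := h.pow_mul_comm_ker hz he n
  rw [← h.comm hn y, left_eq_mul] at h1
  exact h1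

theorem ker_pow_eq_one' (h : PExt σ p) {x y z : Γ} (hz : σ z = 1) (he : x * y = y * x * z) {n : ℕ}
    (hn : σ (y ^ n) = 1) : z ^ n = 1 := by
  have he' : y * x = x * y * z⁻¹ := by rw [he, mul_inv_cancel_right]
  have := h.ker_pow_eq_one (z := z⁻¹) (by simp [hz]) he' hn
  rwa [inv_pow, inv_eq_one] at this

/-- commuting elements of coprime orders have commuting lifts -/
theorem commute_of_orders (h : PExt σ p) {x y : Γ} (he : σ x * σ y = σ y * σ x) {m n : ℕ}
    (hm : σ x ^ m = 1) (hn : σ y ^ n = 1) (hc : Nat.Coprime m n) : Commute x y := by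
  obtain ⟨z, hz, hzy, -⟩ := h.comm_ker he
  have h1 := h.ker_pow_eq_one hz hzy (n := m) (by rw [map_pow, hm])
  have h2 := h.ker_pow_eq_one' hz hzy (n := n) (by rw [map_pow, hn])
  have : z = 1 := orderOf_eq_one_iff.1 (Nat.dvd_one.1
    (hc ▸ Nat.dvd_gcd (orderOf_dvd_of_pow_eq_one h1) (orderOf_dvd_of_pow_eq_one h2)))
  rw [Commute, SemiconjBy, hzy, this, mul_one]

/-- conjugation of the image lifts an element of order two to one of order two -/
theorem exists_sq_one (h : PExt σ p) {d : Γ} (hd : d * d = 1) {x : G}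
    (hx : ∃ g, x = g⁻¹ * σ d * g) : ∃ y, σ y = x ∧ y * y = 1 := by
  obtain ⟨g, rfl⟩ := hx
  obtain ⟨g, rfl⟩ := h.surj g
  exact ⟨g⁻¹ * d * g, by simp, by
    rw [show g⁻¹ * d * g * (g⁻¹ * d * g) = g⁻¹ * (d * d) * g by group, hd, mul_one, inv_mul_cancel]⟩

/-- a lift of a conjugate involution with fourth power one has square one -/
theorem sq_one_of_four (h : PExt σ p) {d : Γ} (hd : d * d = 1) {x : Γ}
    (hx : ∃ g, σ x = g⁻¹ * σ d * g) (h4 : x ^ 4 = 1) : x * x = 1 := by
  obtain ⟨y, hy, hy2⟩ := h.exists_sq_one hd hx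
  rw [← pow_two] at hy2 ⊢
  obtain ⟨z, hz, rfl, hzp⟩ := h.exists_eq_mul hy.symm
  rw [h.mul_pow_ker y hz, hy2, one_mul] at ⊢
  rw [h.mul_pow_ker y hz, show (4 : ℕ) = 2 * 2 from rfl, pow_mul y, hy2, one_pow, one_mul] at h4
  by_cases hp : p = 2
  · rw [hp] at hzp; exact hzp
  · have : z = 1 := h.eq_one_of_coprime hz h4
      (Nat.Coprime.pow_left 2 ((Nat.coprime_primes Nat.prime_two h.prime).2 (Ne.symm hp)))
    rw [this, one_pow]

/-- the product of two commuting involutions -/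
theorem prod_sq (h : PExt σ p) {d x y : Γ} (hd : d * d = 1) (hx : x * x = 1) (hy : y * y = 1)
    (he : σ x * σ y = σ y * σ x) (hxy : ∃ g, σ (x * y) = g⁻¹ * σ d * g) : Commute x y := by
  obtain ⟨z, hz, hzy, -⟩ := h.comm_ker he
  have h2 := h.ker_pow_eq_one hz hzy (n := 2) (by rw [pow_two, hx, map_one])
  have e : (x * y) * (x * y) = z := by
    conv_lhs => lhs; rw [hzy]
    rw [show y * x * z * (x * y) = y * x * (z * x) * y by group, ← h.comm hz x,
      show y * x * (x * z) * y = y * (x * x) * (z * y) by group, hx, mul_one, ← h.comm hz y,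
      ← mul_assoc, hy, one_mul]
  have h4 : (x * y) ^ 4 = 1 := by
    rw [show (4 : ℕ) = 2 * 2 from rfl, pow_mul, pow_two (x * y), e, h2]
  have := h.sq_one_of_four hd hxy h4
  rw [e] at this
  rw [Commute, SemiconjBy, hzy, this, mul_one]

/-- the power of a product of two involutions is its own inverse when central -/
theorem inv_sq (h : PExt σ p) {x y : Γ} (hx : x * x = 1) (hy : y * y = 1) {n : ℕ}
    (hn : σ ((x * y) ^ n) = 1) : (x * y) ^ n * (x * y) ^ n = 1 := by
  have hxi : x⁻¹ = x := inv_eq_of_mul_eq_one_right hx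
  have hyi : y⁻¹ = y := inv_eq_of_mul_eq_one_right hy
  have e : x * (x * y) * x⁻¹ = (x * y)⁻¹ := by
    rw [mul_inv_rev, hxi, hyi, ← mul_assoc x x y, hx, one_mul]
  have h1 : x * (x * y) ^ n * x⁻¹ = ((x * y) ^ n)⁻¹ := by rw [← conj_pow, e, inv_pow]
  rw [h.comm hn x, mul_inv_cancel_right] at h1
  exact eq_inv_iff_mul_eq_one.1 h1

/-- change the sign of the second involution -/
theorem braid (h : PExt σ p) {x y : Γ} (hx : x * x = 1) (hy : y * y = 1)
    (hxy : σ ((x * y) ^ 3) = 1) :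
    ∃ y', σ y' = σ y ∧ y' * y' = 1 ∧ (x * y') ^ 3 = 1 ∧
      ∃ z, σ z = 1 ∧ z * z = 1 ∧ y' = y * z := by
  set z := (x * y) ^ 3 with hzdef
  have hz2 : z * z = 1 := h.inv_sq hx hy hxy
  refine ⟨y * z, by rw [map_mul, hxy, mul_one], ?_, ?_, z, hxy, hz2, rfl⟩
  · rw [show y * z * (y * z) = y * (z * y) * z by group, ← h.comm hxy y,
      show y * (y * z) * z = (y * y) * (z * z) by group, hy, hz2, one_mul]
  · rw [← mul_assoc, h.mul_pow_ker (x * y) hxy, ← hzdef, pow_succ, pow_two, hz2, one_mul, hz2]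

end PExt

end Cfsg.Agent.Lib.ThMult97
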