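import Cfsg.Agent.Lib.ThMult97.Exact
import Cfsg.Agent.Lib.Th55.Final

/-!
The multiplier of the Thompson group is trivial, given the covering derivation, the divisor of the
order and the centraliser of `a`.
-/

set_option autoImplicit false

namespace Cfsg.Agent.Lib.ThMult97

open Cfsg Cfsg.Spor Cfsg.Agent.Lib
open Cfsg.Agent.Lib.Th23 (ThCover)

variable (Z : ThCover) (hdvd : 90745943887872000 ∣ Nat.card Th) (hCA : CentA)
include Z hdvd hCA

theorem ker_inf_eq_bot {Γ : Type} [Group Γ] [Finite Γ] {σ : Γ →* Th} {p : ℕ} (h : PExt σ p) :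
    σ.ker ⊓ commutator Γ = ⊥ := by
  obtain ⟨A, B, C, D, E, S, T, U, hA, hB, hC, hD, hE, hS, hT, hU, hR⟩ :=
    exists_rels Z hdvd h hCA
  obtain ⟨-, hle⟩ := Th23.closure_card_le Z hR
  set H := Subgroup.closure ({A, B, C, D, E, S, T, U} : Set Γ) with hH
  have htop : H.map σ = ⊤ := by
    rw [hH, MonoidHom.map_closure, ← Th55.closure_gg]
    simp only [Set.image_insert_eq, Set.image_singleton, hA, hB, hC, hD, hE, hS, hT, hU]
    rfl
  let f := σ.comp H.subtype
  have hsurj : Function.Surjective f := by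
    intro g
    obtain ⟨x, hx, rfl⟩ := (Subgroup.mem_map.1 (htop.symm ▸ Subgroup.mem_top g : g ∈ H.map σ))
    exact ⟨⟨x, hx⟩, rfl⟩
  have hinj := (hsurj.bijective_of_nat_card_le (by rw [Th55.th_card Z hdvd]; exact hle)).1
  have hbot : H ⊓ σ.ker = ⊥ := by
    refine eq_bot_iff.2 fun x hx => ?_
    have : (⟨x, hx.1⟩ : H) = 1 := hinj (show σ x = σ 1 by rw [map_one]; exact hx.2)
    exact congrArg Subtype.val this
  refine J4Schur53.ker_inf_commutator_eq_bot σ h.surj h.central H hbot ?_
  rw [htop, Subgroup.index_top]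
  exact Nat.coprime_one_left _

/-- the multiplier of the Thompson group is trivial -/
theorem th_multiplier : HasCyclicSchurMultiplier Th 1 := by
  have := Th55.th_finite Z
  refine hasCyclicSchurMultiplier_one fun p Γ _ _ σ h => ker_inf_eq_bot Z hdvd hCA h

end Cfsg.Agent.Lib.ThMult97
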