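import Cfsg.Agent.Lib.ThMult97.Central

/-!
The seven rules between lifts of `u` and of `Kbar` hold exactly.
-/

set_option autoImplicit false

namespace Cfsg.Agent.Lib.ThMult97

open Cfsg Cfsg.Spor Cfsg.Agent.Lib
open Cfsg.Agent.Lib.ThK83 (Kbar rep)

/-- the seven words -/
def tok7 : List (List ℕ) := [[1], [3], [5], [8], [0x2312], [0x77566], [0x4342341234543423121]]

/-- their images -/
def img7 : List (List ℕ) := [[1], [3], [5], [9], [0x23125], [0x77566], [0x434]]

/-- concatenation of the words with given numbers -/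
noncomputable def cat7 (l : List (List ℕ)) : List ℕ → List ℕ
  | [] => []
  | i :: a => LyDC.nth [] l i ++ cat7 l a

theorem th_rule7 : ∀ k < 7,
    kw (LyDC.nth [] tok7 k) * gn .u = gn .u * kw (LyDC.nth [] img7 k) := by
  intro k hk
  rcases Nat.lt_or_ge k 6 with h | h
  · have e := th_six k h
    have e1 : ∀ k < 6, LyDC.nth [] Th23.sixTok k = LyDC.nth [] tok7 k ∧
        LyDC.nth [] Th23.sixImg k = LyDC.nth [] img7 k := by decide +kernel
    rwa [(e1 k h).1, (e1 k h).2] at e
  · obtain rfl : k = 6 := by omega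
    exact th_seventh

theorem th_cat : ∀ a : List ℕ, (∀ i ∈ a, i < 7) →
    kw (cat7 tok7 a) * gn .u = gn .u * kw (cat7 img7 a)
  | [], _ => by simp [cat7, kw_nil]
  | i :: a, h => by
    rw [cat7, cat7, kw_append, kw_append, mul_assoc, th_cat a fun x hx => h x (by simp [hx]),
      ← mul_assoc, th_rule7 i (h i (by simp)), mul_assoc]

theorem conjA_of_conjD {x : Th} (h : ConjD x) : ∃ g, x = g⁻¹ * gn .a * g := by
  obtain ⟨g, rfl⟩ := h
  obtain ⟨k, hk⟩ := conjD_a
  exact ⟨k⁻¹ * g, by rw [hk]; group⟩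

theorem conjD_e : ConjD (gn .e) := by
  have := conjD_of_word [5] [0x45] [0x54] (by decide +kernel) (by decide +kernel)
  rwa [kw_eq] at this

namespace Lifts

variable {Γ : Type*} [Group Γ] {σ : Γ →* Th} {p : ℕ} {Φ : Kbar →* Γ} {U : Γ}
variable (L : Lifts σ p Φ U) (hCA : CentA)
include L hCA

/-- a rule given by tokens, with certificates -/
theorem cat_exact (a : List ℕ) (ha : (∀ i ∈ a, i < 7)) (g g' k k' : List ℕ)
    (hg : ThK83.tabs.same ThK83.base (g' ++ g) [] = true)
    (hg' : ThK83.tabs.same ThK83.base (cat7 tok7 a) (g' ++ [4] ++ g) = true)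
    (hk : ThK83.tabs.same ThK83.base (k' ++ k) [] = true)
    (hk' : ThK83.tabs.same ThK83.base (cat7 img7 a) (k' ++ cat7 tok7 a ++ k) = true) :
    Φ (rep.ev (cat7 tok7 a)) * U = U * Φ (rep.ev (cat7 img7 a)) :=
  L.rule_exact hCA (conjA_of_conjD (conjD_of_word _ g g' hg hg')) hk hk' (th_cat a ha)

/-- a rule follows from two others -/
theorem rule_mul {v w v' w' x x' : List ℕ} (hv : Φ (rep.ev v) * U = U * Φ (rep.ev v'))
    (hw : Φ (rep.ev w) * U = U * Φ (rep.ev w'))
    (hx : ThK83.tabs.same ThK83.base x (v ++ w) = true)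
    (hx' : ThK83.tabs.same ThK83.base x' (v' ++ w') = true) :
    Φ (rep.ev x) * U = U * Φ (rep.ev x') := by
  rw [ThK83.rep.eq_of_same ThK83.base_lt ThK83.baseInj hx,
    ThK83.rep.eq_of_same ThK83.base_lt ThK83.baseInj hx', ThK83.rep.ev_append,
    ThK83.rep.ev_append, map_mul, map_mul, mul_assoc, hw, ← mul_assoc, hv, mul_assoc]

theorem rule7 : ∀ k < 7, Φ (rep.ev (LyDC.nth [] tok7 k)) * U =
    U * Φ (rep.ev (LyDC.nth [] img7 k)) := by
  have one : ∀ k < 7, ∀ (x x' : List ℕ), LyDC.nth [] tok7 k = x → LyDC.nth [] img7 k = x' →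
      kw x * gn .u = gn .u * kw x' := fun k hk x x' e e' => e ▸ e' ▸ th_rule7 k hk
  have hkc : kw [3] = gn .c := by rw [kw_eq]; rfl
  have hke : kw [5] = gn .e := by rw [kw_eq]; rfl
  have r0 : Φ (rep.ev [1]) * U = U * Φ (rep.ev [1]) := L.commute_a_u.eq
  have r1 : Φ (rep.ev [3]) * U = U * Φ (rep.ev [3]) :=
    L.rule_exact hCA (k := []) (k' := []) (by rw [hkc]; exact conjA_of_conjD conjD_c)
      (by decide +kernel) (by decide +kernel) (one 1 (by decide) _ _ rfl rfl)
  have r2 : Φ (rep.ev [5]) * U = U * Φ (rep.ev [5]) :=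
    L.rule_exact hCA (k := []) (k' := []) (by rw [hke]; exact conjA_of_conjD conjD_e)
      (by decide +kernel) (by decide +kernel) (one 2 (by decide) _ _ rfl rfl)
  have r3 : Φ (rep.ev [8]) * U = U * Φ (rep.ev [9]) := by
    have e : rep.ev [9] = (rep.ev [8])⁻¹ := by
      have h : ThK83.tabs.same ThK83.base ([8] ++ [9]) [] = true := by decide +kernel
      have := ThK83.rep.eq_of_same ThK83.base_lt ThK83.baseInj h
      rw [ThK83.rep.ev_append, ThK83.rep.ev_nil] at this
      exact eq_inv_of_mul_eq_one_right this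
    have e8 : rep.ev [8] = rep.f 7 := by
      have : ThK83.decode [8] = [7] := by decide +kernel
      rw [ThK83.Rep.ev, this]; simp
    rw [e, map_inv, e8, ← L.t_inv]; group
  have w45 := L.cat_exact hCA [4, 5] (by decide) [0x8463451234345423] [0x3245434321543749]
    [0x68] [0x97] (by decide +kernel) (by decide +kernel) (by decide +kernel) (by decide +kernel)
  have r5 : Φ (rep.ev [0x77566]) * U = U * Φ (rep.ev [0x77566]) :=
    L.rule_exact hCA (k := []) (k' := [])
      (conjA_of_conjD (conjD_of_word _ [0x8465] [0x5749] (by decide +kernel) (by decide +kernel)))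
      (by decide +kernel) (by decide +kernel) (one 5 (by decide) _ _ rfl rfl)
  have r4 : Φ (rep.ev [0x2312]) * U = U * Φ (rep.ev [0x23125]) :=
    L.rule_mul hCA w45 r5 (by decide +kernel) (by decide +kernel)
  have v1 := L.cat_exact hCA [1, 4, 6, 5, 6, 4] (by decide) [0x85463423454123] [0x32145432437459]
    [0x54345] [0x54345] (by decide +kernel) (by decide +kernel) (by decide +kernel) (by decide +kernel)
  have v2 := L.cat_exact hCA [1, 4, 6, 5, 6, 4, 6] (by decide) [0x664523465123] [0x321574325477]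
    [0x866] [0x779] (by decide +kernel) (by decide +kernel) (by decide +kernel) (by decide +kernel)
  have r6 : Φ (rep.ev [0x4342341234543423121]) * U = U * Φ (rep.ev [0x434]) :=
    L.rule_mul hCA v1 v2 (by decide +kernel) (by decide +kernel)
  intro k hk
  interval_cases k
  exacts [r0, r1, r2, r3, r4, r5, r6]

end Lifts

end Cfsg.Agent.Lib.ThMult97
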