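import Cfsg.Agent.Lib.ThMult97.Lemmas
import Cfsg.Agent.Lib.ThMult97.KRel

/-!
Exact lifts of `e`, `s` and the dihedral relation with `d`.
-/

set_option autoImplicit false

namespace Cfsg.Agent.Lib.ThMult97

variable {Γ G : Type*} [Group Γ] [Group G] {σ : Γ →* G} {p : ℕ}

/-- a lift of `s` with `t⁻¹ s t = s²` and `s⁷ = 1` -/
theorem exists_s (h : PExt σ p) {s₀ : G} {T : Γ} (ht : σ (T ^ 3) = 1)
    (hts : (σ T)⁻¹ * s₀ * σ T = s₀ ^ 2) : ∃ S, σ S = s₀ ∧ T⁻¹ * S * T = S ^ 2 ∧ S ^ 7 = 1 := by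
  obtain ⟨S₀, rfl⟩ := h.surj s₀
  set S := S₀⁻¹ * (T⁻¹ * S₀ * T) with hS
  have hσ : σ S = σ S₀ := by
    rw [hS]; simp only [map_mul, map_inv]; rw [hts, pow_two, inv_mul_cancel_left]
  obtain ⟨z, hz, e, -⟩ := h.exists_eq_mul hσ
  have key : T⁻¹ * S * T = S ^ 2 := by
    have h0 : S₀ * S = T⁻¹ * S₀ * T := by rw [hS, mul_inv_cancel_left]
    calc T⁻¹ * S * T = T⁻¹ * S₀ * (z * T) := by rw [e]; group
      _ = T⁻¹ * S₀ * T * z := by rw [← h.comm hz T, ← mul_assoc]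
      _ = S₀ * (S * z) := by rw [← h0, mul_assoc]
      _ = S₀ * z * S := by rw [h.comm hz S, ← mul_assoc]
      _ = S ^ 2 := by rw [← e, pow_two]
  have hk : ∀ n : ℕ, T⁻¹ * S ^ n * T = S ^ (2 * n) := fun n => by
    have := (conj_pow (i := n) (a := T⁻¹) (b := S))
    rw [inv_inv, key] at this
    rw [← this, pow_mul]
  refine ⟨S, hσ, key, ?_⟩
  have h3 : (T ^ 3)⁻¹ * S * T ^ 3 = S ^ 8 := by
    calc (T ^ 3)⁻¹ * S * T ^ 3 = T⁻¹ * (T⁻¹ * (T⁻¹ * S * T) * T) * T := by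
          simp [pow_succ, mul_assoc]
      _ = S ^ 8 := by rw [key, hk, hk]
  rw [mul_assoc, h.comm ht S, inv_mul_cancel_left] at h3
  exact (left_eq_mul (a := S)).1 (h3.trans (by rw [← pow_succ']))

/-- a lift of `e` with the relation to `s`, of square one -/
theorem exists_e (h : PExt σ p) {e₀ : G} {S : Γ} (hee : e₀ * e₀ = 1) (hs : S ^ 7 = 1)
    (hes : e₀⁻¹ * (σ S)⁻¹ * e₀ * σ S = ((σ S) ^ 3)⁻¹ * e₀ * σ S ^ 3) :
    ∃ E, σ E = e₀ ∧ E * E = 1 ∧ E⁻¹ * S⁻¹ * E * S = (S ^ 3)⁻¹ * E * S ^ 3 := by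
  obtain ⟨E₀, rfl⟩ := h.surj e₀
  set E := S ^ 3 * (E₀⁻¹ * S⁻¹ * E₀ * S) * (S ^ 3)⁻¹ with hE
  have hσ : σ E = σ E₀ := by
    rw [hE]; simp only [map_mul, map_inv, map_pow]; rw [hes]; group
  obtain ⟨z, hz, e, -⟩ := h.exists_eq_mul hσ
  have hzc := h.comm hz
  have rel : E⁻¹ * S⁻¹ * E * S = (S ^ 3)⁻¹ * E * S ^ 3 := by
    calc E⁻¹ * S⁻¹ * E * S = z⁻¹ * (E₀⁻¹ * S⁻¹ * E₀) * (z * S) := by rw [e]; group
      _ = z⁻¹ * (E₀⁻¹ * S⁻¹ * E₀) * (S * z) := by rw [hzc S]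
      _ = z⁻¹ * ((E₀⁻¹ * S⁻¹ * E₀ * S) * z) := by group
      _ = E₀⁻¹ * S⁻¹ * E₀ * S := by rw [hzc, inv_mul_cancel_left]
      _ = (S ^ 3)⁻¹ * E * S ^ 3 := by rw [hE]; group
  refine ⟨E, hσ, ?_, rel⟩
  set F : ℕ → Γ := fun i => (S ^ i)⁻¹ * E * S ^ i with hF
  have hF0 : F 0 = E := by simp [hF]
  have hF1 : F 1 = F 0 * F 3 := by
    simp only [hF, pow_zero, inv_one, one_mul, mul_one, pow_one]
    rw [← rel]; group
  have shift : ∀ i, F (i + 1) = S⁻¹ * F i * S := fun i => by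
    simp only [hF, pow_succ]; group
  set q := E * E with hq
  have hqk : σ q = 1 := by rw [hq, map_mul, hσ]; exact hee
  have hqc := h.comm hqk
  have hsq : ∀ i, F i * F i = q := fun i => by
    simp only [hF]
    rw [show (S ^ i)⁻¹ * E * S ^ i * ((S ^ i)⁻¹ * E * S ^ i) = (S ^ i)⁻¹ * (E * E) * S ^ i by group,
      ← hq, mul_assoc, ← hqc, inv_mul_cancel_left]
  clear_value F q
  -- `F 0` and `F 3`
  have c03 : F 0 * F 3 = F 3 * F 0 * q := by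
    have hc : σ (F 0) * σ (F 3) = σ (F 3) * σ (F 0) := by
      have e0 : σ (F 0) * σ (F 0) = 1 := by rw [← map_mul, hsq, hqk]
      have e1 : σ (F 1) * σ (F 1) = 1 := by rw [← map_mul, hsq, hqk]
      have e3 : σ (F 3) * σ (F 3) = 1 := by rw [← map_mul, hsq, hqk]
      rw [hF1, map_mul] at e1
      rw [eq_inv_of_mul_eq_one_left e1, mul_inv_rev, inv_eq_of_mul_eq_one_right e3,
        inv_eq_of_mul_eq_one_right e0]
    obtain ⟨w, hw, e', -⟩ := h.comm_ker hc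
    have h1 : q * w = q * (q * 1) := by
      calc q * w = F 1 * F 1 * w := by rw [hsq]
        _ = F 0 * (F 3 * F 0 * w) * F 3 := by
          rw [hF1, show F 0 * (F 3 * F 0 * w) * F 3 = F 0 * F 3 * F 0 * (w * F 3) by group,
            ← h.comm hw (F 3)]
          group
        _ = (F 0 * F 0) * (F 3 * F 3) := by rw [← e']; group
        _ = q * (q * 1) := by rw [hsq, hsq, mul_one]
    rw [e', mul_left_cancel h1, mul_one]
  have shiftc : ∀ {x y : Γ}, x * y = y * x * q →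
      (S⁻¹ * x * S) * (S⁻¹ * y * S) = (S⁻¹ * y * S) * (S⁻¹ * x * S) * q := fun {x y} hxy => by
    calc (S⁻¹ * x * S) * (S⁻¹ * y * S) = S⁻¹ * (x * y) * S := by group
      _ = S⁻¹ * (y * x) * (q * S) := by rw [hxy]; group
      _ = S⁻¹ * (y * x) * (S * q) := by rw [hqc S]
      _ = (S⁻¹ * y * S) * (S⁻¹ * x * S) * q := by group
  have hq2 : q * q = 1 := by
    have := h.ker_pow_eq_one hqk c03 (n := 2) (by rw [pow_two, hsq, hqk])
    rwa [pow_two] at this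
  -- `F 0` and `F 1`
  have c01 : F 0 * F 1 = F 1 * F 0 * q := by
    calc F 0 * F 1 = F 0 * (F 0 * F 3) := by rw [hF1]
      _ = F 0 * (F 3 * F 0 * q) := by rw [c03]
      _ = F 1 * F 0 * q := by rw [hF1]; group
  have c12 : F 1 * F 2 = F 2 * F 1 * q := by
    have := shiftc c01
    rwa [← shift 0, ← shift 1] at this
  have c23 : F 2 * F 3 = F 3 * F 2 * q := by
    have := shiftc c12
    rwa [← shift 1, ← shift 2] at this
  have hF3 : F 3 = q * (F 0 * F 1) := by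
    rw [hF1, ← mul_assoc (F 0), hsq, ← mul_assoc, hq2, one_mul]
  -- `F 0` and `F 2` commute
  have c02 : F 2 * F 0 = F 0 * F 2 := by
    have hc : σ (F 2) * σ (F 0) = σ (F 0) * σ (F 2) := by
      have h23 : σ (F 2) * σ (F 3) = σ (F 3) * σ (F 2) := by
        rw [← map_mul, c23, map_mul, map_mul, hqk, mul_one]
      have h21 : σ (F 2) * σ (F 1) = σ (F 1) * σ (F 2) := by
        rw [← map_mul σ (F 1) (F 2), c12, map_mul, map_mul, hqk, mul_one]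
      rw [hF3, map_mul, map_mul, hqk, one_mul, mul_assoc (σ (F 0)), ← h21, ← mul_assoc,
        ← mul_assoc (σ (F 0))] at h23
      exact mul_right_cancel h23
    obtain ⟨w, hw, e', -⟩ := h.comm_ker hc
    have h21 : F 2 * F 1 = F 1 * F 2 * q := by
      rw [c12, mul_assoc, hq2, mul_one]
    have h1 : F 0 * F 1 * F 2 * (q * w) = F 0 * F 1 * F 2 * q := by
      calc F 0 * F 1 * F 2 * (q * w) = F 0 * (F 2 * F 1) * w := by rw [h21]; group
        _ = F 0 * F 2 * (F 1 * w) := by group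
        _ = F 0 * F 2 * (w * F 1) := by rw [h.comm hw (F 1)]
        _ = F 2 * (F 0 * F 1) := by rw [← mul_assoc, ← e', mul_assoc]
        _ = F 2 * (q * (q * (F 0 * F 1))) := by rw [← mul_assoc q, hq2, one_mul]
        _ = q * (F 2 * F 3) := by rw [← hF3, ← mul_assoc, hqc, mul_assoc]
        _ = q * (F 3 * F 2 * q) := by rw [c23]
        _ = (q * q) * (F 0 * F 1 * F 2 * q) := by rw [hF3]; group
        _ = F 0 * F 1 * F 2 * q := by rw [hq2, one_mul]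
    rw [e', mul_eq_left.1 (mul_left_cancel h1), mul_one]
  -- shifted once
  have c13 : F 3 * F 1 = F 1 * F 3 := by
    rw [shift 2, shift 0,
      show (S⁻¹ * F 2 * S) * (S⁻¹ * F 0 * S) = S⁻¹ * (F 2 * F 0) * S by group, c02]
    group
  have h2 : q * (F 0 * F 1 * F 1) * q = q * (F 0 * F 1 * F 1) * 1 := by
    calc q * (F 0 * F 1 * F 1) * q = q * (F 0 * F 1) * (F 1 * q) := by group
      _ = q * (F 0 * F 1) * (q * F 1) := by rw [hqc (F 1)]
      _ = q * (F 1 * F 0 * q * q * F 1) := by rw [c01]; group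
      _ = q * (F 1 * (F 0 * F 1)) := by rw [mul_assoc _ q q, hq2, mul_one]; group
      _ = F 1 * F 3 := by rw [← mul_assoc, ← hqc (F 1), mul_assoc, ← hF3]
      _ = F 3 * F 1 := c13.symm
      _ = q * (F 0 * F 1 * F 1) * 1 := by rw [hF3]; group
  exact mul_left_cancel h2

/-- a lift of `d` of square one with the braid relation to `e` -/
theorem exists_d (h : PExt σ p) {d₀ : G} {E : Γ} (hd : d₀ * d₀ = 1) (he : E * E = 1)
    (hde : (d₀ * σ E) ^ 3 = 1) : ∃ D, σ D = d₀ ∧ D * D = 1 ∧ (D * E) ^ 3 = 1 := by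
  obtain ⟨D₀, rfl⟩ := h.surj d₀
  set α := D₀ * D₀ with hα
  set γ := (D₀ * E) ^ 3 with hγ
  have hαk : σ α = 1 := by rw [hα, map_mul, hd]
  have hγk : σ γ = 1 := by rw [hγ, map_pow, map_mul, hde]
  have hαi : σ α⁻¹ = 1 := by rw [map_inv, hαk, inv_one]
  have hEi : E⁻¹ = E := inv_eq_of_mul_eq_one_right he
  have e : E * (D₀ * E) * E⁻¹ = (D₀ * E)⁻¹ * α := by
    rw [mul_inv_rev, hEi, hα, mul_assoc E (D₀ * E) E, mul_assoc D₀ E E, he, mul_one,
      mul_assoc E D₀⁻¹, inv_mul_cancel_left]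
  have h1 : γ = γ⁻¹ * α ^ 3 := by
    conv_lhs => rw [← mul_inv_cancel_right γ E, ← h.comm hγk E, hγ, ← conj_pow, e]
    rw [h.mul_pow_ker _ hαk, inv_pow, ← hγ]
  have hg2 : γ * γ = α ^ 3 := by rw [← inv_mul_eq_iff_eq_mul.1 h1.symm]
  have hz : σ (α * γ⁻¹) = 1 := by rw [map_mul, map_inv, hαk, hγk, inv_one, one_mul]
  have cαγ : α * γ⁻¹ = γ⁻¹ * α := (h.comm hαk γ⁻¹).symm
  refine ⟨D₀ * (α * γ⁻¹), by rw [map_mul, hz, mul_one], ?_, ?_⟩
  · calc D₀ * (α * γ⁻¹) * (D₀ * (α * γ⁻¹)) = D₀ * (α * γ⁻¹ * D₀) * (α * γ⁻¹) := by group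
      _ = D₀ * (D₀ * (α * γ⁻¹)) * (α * γ⁻¹) := by rw [← h.comm hz D₀]
      _ = α * ((α * γ⁻¹) * (α * γ⁻¹)) := by rw [hα]; simp only [mul_assoc]
      _ = α * (α * (γ⁻¹ * α) * γ⁻¹) := by simp only [mul_assoc]
      _ = α ^ 3 * (γ * γ)⁻¹ := by rw [← cαγ]; simp [pow_succ, mul_assoc]
      _ = 1 := by rw [hg2, mul_inv_cancel]
  · rw [mul_assoc D₀, ← h.comm hz E, ← mul_assoc D₀, h.mul_pow_ker _ hz, ← hγ,
      (show Commute α γ⁻¹ from cαγ).mul_pow, ← hg2, inv_pow, pow_succ γ, pow_two]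
    group

end Cfsg.Agent.Lib.ThMult97
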