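import Cfsg.Agent.Lib.ThMult97.Rules
import Cfsg.Agent.Lib.Th55.Order
import Cfsg.Agent.Lib.Th23.DerivData

/-!
For a kernel of order two the relator `u² = a c` lifts exactly: some `u * k`, with `k` in the
domain of the rules for `u`, is an involution conjugate to `a`.
-/

set_option autoImplicit false
set_option linter.unusedSimpArgs false
set_option maxRecDepth 100000

namespace Cfsg.Agent.Lib.ThMult97

open Cfsg Cfsg.Spor Cfsg.Agent.Lib
open Cfsg.Agent.Lib.ThK83 (Kbar rep)
open Cfsg.Agent.Lib.LyDC (nth)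
open Cfsg.Agent.Lib.Th23 (kM ThCover thTokW thImgW)

theorem kMap_eq : kMap = Th55.thPhi := by
  refine MonoidHom.eq_of_eqOn_dense ThK83.closure_rep ?_
  have h := Th55.thMaps
  intro x hx
  simp only [Set.mem_insert_iff, Set.mem_singleton_iff] at hx
  rcases hx with rfl | rfl | rfl | rfl | rfl | rfl | rfl
  exacts [thMap_K.ha.trans h.ha.symm, thMap_K.hb.trans h.hb.symm, thMap_K.hc.trans h.hc.symm,
    thMap_K.hd.trans h.hd.symm, thMap_K.he.trans h.he.symm, thMap_K.hs.trans h.hs.symm,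
    thMap_K.ht.trans h.ht.symm]

/-- the first items of the derivation -/
noncomputable def smallDeriv : Th23.ThDeriv where
  D := Th23.deriv
  N := 44
  tokW := rfl
  imgW := rfl
  forms := rfl
  uW := rfl
  words := by decide +kernel
  steps := Th23.steps_of_range (by decide +kernel)
  par_zero := rfl

/-- its context in the presented group -/
noncomputable def smallCtx : Th23.Ctx kM smallDeriv.D Th :=
  Th23.ctxOf smallDeriv thMap_K (rels_th Th23.upperIdx) Th23.dcIdx_sub
    (Th23.seventh_of_rels thMap_K (rels_th Th23.upperIdx))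

theorem smallCtx_phi : smallCtx.φ = kMap := rfl

theorem smallCtx_u : smallCtx.u = gn .u := rfl

/-- an involution of `Kbar` whose conjugate by `u` lies in `K u K` -/
noncomputable def zWord : List ℕ := [0x578434564345734] ++ Th23.catW thTokW [2, 4, 10, 6, 6]

theorem exists_u_conj : ∃ k : Kbar, ∃ h : Th,
    gn .u * kMap k = h⁻¹ * gn .a * h ∧ gn .u * kMap k * (gn .u * kMap k) = 1 := by
  obtain ⟨-, g, -, he⟩ := smallCtx.useK_sound (q := 44) (i := 1) (h := zWord)
    (u := ⟨43, [], [2, 4, 10, 6, 6]⟩) (k := fun j _ => Nat.beq j 1)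
    (fun k hk => smallCtx.holds_all k hk) (by decide +kernel) |> fun ⟨j, g, hj, he⟩ =>
      (⟨j, g, hj, (Nat.eq_of_beq_eq_true hj) ▸ he⟩ :
        ∃ j g, Nat.beq j 1 = true ∧
          smallCtx.Eqv (smallCtx.W 1 * smallCtx.hv zWord * smallCtx.u)
            (smallCtx.W 1 * smallCtx.hv g))
  obtain ⟨k₁, hk₁⟩ := he
  rw [smallCtx.W_one, smallCtx_u, smallCtx_phi] at hk₁
  have hv : ∀ w, smallCtx.hv w = kMap (rep.ev w) := fun w => rfl
  rw [hv, hv] at hk₁
  set u := gn .u with hu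
  set z := kMap (rep.ev zWord) with hz
  have hui : u⁻¹ = kMap (rep.ev [0x13]) * u :=
    Th23.u_inv_ev thMap_K (rels_th [27]) (by simp)
  set k' := kMap (rep.ev [0x13] * k₁) with hk'
  have hx : u⁻¹ * z * u = k' * (u * kMap (rep.ev g)) := by
    rw [hk', map_mul, hui, hk₁]; simp only [mul_assoc]; group
  refine ⟨rep.ev g * (rep.ev [0x13] * k₁), ?_⟩
  have hy : u * kMap (rep.ev g * (rep.ev [0x13] * k₁)) = (u * k')⁻¹ * z * (u * k') := by
    rw [map_mul, ← hk',
      show (u * k')⁻¹ * z * (u * k') = k'⁻¹ * (u⁻¹ * z * u) * k' by group, hx]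
    group
  have hzz : z * z = 1 := by
    rw [hz, ← map_mul, ← ThK83.rep.ev_append, ThK83.rep.eq_of_same ThK83.base_lt ThK83.baseInj
      (show ThK83.tabs.same ThK83.base (zWord ++ zWord) [] = true by decide +kernel),
      ThK83.rep.ev_nil, map_one]
  obtain ⟨g₀, hg₀⟩ := conjA_of_conjD (conjD_of_word zWord [0x46546563] [0x37574574]
    (by decide +kernel) (by decide +kernel))
  refine ⟨g₀ * (u * k'), ?_, ?_⟩
  · rw [hy, hz]; change (u * k')⁻¹ * kw zWord * (u * k') = _
    rw [hg₀]; group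
  · rw [hy, show (u * k')⁻¹ * z * (u * k') * ((u * k')⁻¹ * z * (u * k')) =
      (u * k')⁻¹ * (z * z) * (u * k') by group, hzz, mul_one, inv_mul_cancel]

variable (Z : ThCover) (hdvd : 90745943887872000 ∣ Nat.card Th)
include Z hdvd

theorem kMap_injective : Function.Injective kMap := kMap_eq ▸ Th55.thPhi_injective Z hdvd

/-- `k` is in the domain of the rules as soon as `u` conjugates it into the image of `Kbar` -/
theorem mem_tok {k k' : Kbar} (h : kMap k * gn .u = gn .u * kMap k') :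
    k ∈ kM.wordGroup thTokW := by
  have : Finite Kbar := Nat.finite_of_card_ne_zero (by rw [ThK83.card_Kbar]; norm_num)
  set C := Th55.thCtx Z with hC
  let T : Subgroup Kbar :=
    kMap.range.comap ((MulAut.conj (gn .u)⁻¹).toMonoidHom.comp kMap)
  have memT : ∀ {x : Kbar}, x ∈ T ↔ (gn .u)⁻¹ * kMap x * gn .u ∈ kMap.range := fun {x} => by
    simp [T, Subgroup.mem_comap, MulAut.conj_apply]
  have hTS : T ≤ C.S 1 := by
    intro x hx
    obtain ⟨y, hy⟩ := memT.1 hx
    show C.W 1 * C.φ x * (C.W 1)⁻¹ ∈ C.φ.range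
    rw [C.W_one, Th55.thCtx_phi, ← kMap_eq, show C.u = gn .u from rfl]
    refine ⟨rep.ev [0x31] * y * (rep.ev [0x31])⁻¹, ?_⟩
    have hq : kMap (rep.ev [0x31]) = gn .u * gn .u :=
      (Th23.u_sq_ev thMap_K (rels_th [27]) (by simp)).symm
    rw [map_mul, map_mul, map_inv, hy, hq]; group
  have hle : kM.wordGroup thTokW ≤ T := kM.wordGroup_le fun w hw => by
    obtain ⟨i, hi, rfl⟩ := List.getElem_of_mem hw
    refine memT.2 ⟨kM.ev (nth [] thImgW i), ?_⟩
    have e := Th23.all_tok thMap_K (rels_th Th23.upperIdx) Th23.dcIdx_sub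
      (Th23.seventh_of_rels thMap_K (rels_th Th23.upperIdx)) i hi
    rw [LyDC.nth_eq, List.getD_eq_getElem _ _ hi] at e
    show kMap (rep.ev (nth [] thImgW i)) = (gn .u)⁻¹ * kMap (rep.ev thTokW[i]) * gn .u
    rw [mul_assoc, e]; group
  have hcard : Nat.card T ≤ Nat.card (kM.wordGroup thTokW) := by
    refine le_trans (Nat.le_of_dvd Nat.card_pos (Subgroup.card_dvd_of_le hTS)) ?_
    rw [Th55.card_stab Z hdvd 1 (by decide)]
    refine Nat.le_of_dvd Nat.card_pos ?_
    refine (show Th23.thStab.getD 1 0 ∣ _ from (Z.tok_len.trans (Th23.chain_dvd kM Z.tok_ok)).trans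
      (Subgroup.card_dvd_of_le (kM.wordGroup_le fun w hw => ?_)))
    obtain ⟨i, hi, rfl⟩ := List.getElem_of_mem hw
    have h := LyDC.rangeB_spec Z.tok_sub i (Nat.zero_le _) (by omega)
    simp only [LyDC.band_eq, Bool.and_eq_true, LyDC.forallB_iff, LyDC.bltN_iff] at h
    rw [← List.getD_eq_getElem _ [] hi, ← LyDC.nth_eq, kM.eq_of_eqW h.2]
    exact Th23.catW_mem_wordGroup _ h.1
  rw [Subgroup.eq_of_le_of_card_ge hle hcard]
  exact memT.2 ⟨k', by rw [mul_assoc, h]; group⟩

variable {Γ : Type*} [Group Γ] {σ : Γ →* Th} {p : ℕ} {Φ : Kbar →* Γ} {U : Γ}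
variable (L : Lifts σ p Φ U) (hCA : CentA)
include L hCA

/-- the rules for `u` hold exactly on their whole domain -/
theorem Lifts.push {x : Kbar} (hx : x ∈ kM.wordGroup thTokW) :
    ∃ y, Φ x * U = U * Φ y := by
  induction hx using Subgroup.closure_induction with
  | mem x hx =>
    obtain ⟨w, hw, rfl⟩ := hx
    obtain ⟨i, hi, rfl⟩ := List.getElem_of_mem hw
    show ∃ y, Φ (kM.ev thTokW[i]) * U = U * Φ y
    rw [← List.getD_eq_getElem _ [] hi, ← LyDC.nth_eq]
    have hi14 : i < 14 := hi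
    have he : ∀ k < 7, nth [] thTokW (2 * k) = nth [] tok7 k ∧
        (Th23.kPts ThK83.base).eqW
          (nth [] thTokW (2 * k) ++ nth [] thTokW (2 * k + 1)) [] = true := by decide +kernel
    obtain ⟨h1, h2⟩ := he (i / 2) (by omega)
    have r := L.rule7 hCA (i / 2) (by omega)
    rw [← h1] at r
    rcases Nat.mod_two_eq_zero_or_one i with h | h
    · rw [show i = 2 * (i / 2) by omega]; exact ⟨_, r⟩
    · have e : kM.ev (nth [] thTokW i) = (rep.ev (nth [] thTokW (2 * (i / 2))))⁻¹ := by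
        have e' := kM.eq_of_eqW h2
        rw [kM.ev_append, kM.ev_nil, show 2 * (i / 2) + 1 = i by omega] at e'
        exact eq_inv_of_mul_eq_one_right e'
      rw [e]
      exact ⟨_, Th23.rule_inv Φ r⟩
  | one => exact ⟨1, by simp⟩
  | mul x x' _ _ hx hx' =>
    obtain ⟨y, hy⟩ := hx
    obtain ⟨y', hy'⟩ := hx'
    exact ⟨y * y', by rw [map_mul, map_mul, mul_assoc, hy', ← mul_assoc, hy, mul_assoc]⟩
  | inv x _ hx =>
    obtain ⟨y, hy⟩ := hx
    exact ⟨y⁻¹, Th23.rule_inv Φ hy⟩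

/-- `u² = a c` lifts exactly for a kernel of order two -/
theorem Lifts.u_sq_two (hp : p = 2) : U * U = Φ (rep.ev [0x31]) := by
  obtain ⟨k, h, hy, hsq⟩ := exists_u_conj
  have hq : gn .u * gn .u = kMap (rep.ev [0x31]) :=
    Th23.u_sq_ev thMap_K (rels_th [27]) (by simp)
  obtain ⟨z, hz, hUU, -⟩ := L.ext.exists_eq_mul (x := U * U) (y := Φ (rep.ev [0x31]))
    (by rw [map_mul, L.map_u, L.map_phi, hq])
  set k₄ := k⁻¹ * (rep.ev [0x31])⁻¹ with hk₄
  have hku : kMap k₄ * gn .u = gn .u * kMap k := by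
    have e : gn .u * kMap k = (kMap k)⁻¹ * (gn .u)⁻¹ := by
      rw [← mul_inv_rev]; exact eq_inv_of_mul_eq_one_right hsq
    rw [e, hk₄, map_mul, map_inv, map_inv, ← hq]; group
  obtain ⟨k', hk'⟩ := L.push Z hdvd hCA (mem_tok Z hdvd hku)
  obtain rfl : k' = k := kMap_injective Z hdvd (mul_left_cancel (a := gn .u) (by
    rw [← hku, ← L.map_phi, ← L.map_phi, ← L.map_u, ← map_mul, ← map_mul, hk']))
  have hsqΓ : (U * Φ k') * (U * Φ k') = z := by
    calc U * Φ k' * (U * Φ k') = (U * Φ k') * U * Φ k' := by group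
      _ = Φ k₄ * (U * U) * Φ k' := by rw [← hk']; group
      _ = Φ k₄ * Φ (rep.ev [0x31]) * (z * Φ k') := by rw [hUU]; group
      _ = Φ (k₄ * rep.ev [0x31] * k') * z := by
        rw [← L.ext.comm hz (Φ k'), hk₄]; simp only [map_mul, mul_assoc]
      _ = z := by rw [hk₄]; simp
  obtain ⟨g, hg⟩ := conjD_a
  have hd : σ (Φ (rep.f 3)) = gn .d := by rw [L.map_phi]; exact thMap_K.hd
  have hdd : Φ (rep.f 3) * Φ (rep.f 3) = 1 := by
    have e : rep.ev [4] * rep.ev [4] = 1 := by
      rw [← ThK83.rep.ev_append, ThK83.rep.eq_of_same ThK83.base_lt ThK83.baseInj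
        (show ThK83.tabs.same ThK83.base ([4] ++ [4]) [] = true by decide +kernel),
        ThK83.rep.ev_nil]
    have e4 : rep.ev [4] = rep.f 3 := by
      rw [ThK83.Rep.ev, show ThK83.decode [4] = [3] by decide +kernel]; simp
    rw [← map_mul, ← e4, e, map_one]
  obtain ⟨y, hyσ, hy2⟩ := L.ext.exists_sq_one hdd (x := σ (U * Φ k'))
    ⟨g * h, by rw [hd, map_mul, L.map_u, L.map_phi, hy, hg]; group⟩
  have := L.ext.pow_eq (x := U * Φ k') (y := y) hyσ.symm (n := 2) (by rw [hp])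
  rw [pow_two, pow_two, hy2, hsqΓ] at this
  rw [hUU, this, mul_one]

end Cfsg.Agent.Lib.ThMult97
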