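import Cfsg.Agent.Lib.Th23.SeventhBase

/-!
Coset equations with a central factor, for relators that are only known up to the kernel.
-/

set_option autoImplicit false

namespace Cfsg.Agent.Lib.ThMult97.Coset

open Cfsg.Agent.Lib Cfsg.Agent.Lib.Th23.Seventh

variable {G : Type*} [Group G]

/-- two central elements -/
structure Cen (Y Z : G) : Prop where
  hy : ∀ g : G, Commute Y g
  hz : ∀ g : G, Commute Z g

/-- the product of powers of the two central elements -/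
def zp (Y Z : G) (v : ℤ × ℤ) : G := Y ^ v.1 * Z ^ v.2

variable {Y Z : G} (hC : Cen Y Z)
include hC

theorem zp_comm (v : ℤ × ℤ) (g : G) : zp Y Z v * g = g * zp Y Z v :=
  (((hC.hy g).zpow_left v.1).mul_left ((hC.hz g).zpow_left v.2)).eq

theorem zp_add (v w : ℤ × ℤ) : zp Y Z (v + w) = zp Y Z v * zp Y Z w := by
  simp only [zp, Prod.fst_add, Prod.snd_add, zpow_add]
  rw [mul_assoc, mul_assoc, ← mul_assoc (Y ^ w.1) (Z ^ v.2),
    (((hC.hy Z).zpow_zpow w.1 v.2)).eq, mul_assoc]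

theorem zp_neg (v : ℤ × ℤ) : zp Y Z (-v) = (zp Y Z v)⁻¹ := by
  refine eq_inv_of_mul_eq_one_left ?_
  rw [← zp_add hC, neg_add_cancel]
  simp [zp]

omit hC

/-- the coset of `x` moves along `w` to the coset of `y` with the factor `k` and a central one -/
def Eqz (φ : ThK83.Kbar →* G) (u Y Z : G) (x w y k : List ℕ) (v : ℤ × ℤ) : Prop :=
  wd φ u x * wd φ u w = φ (ThK83.rep.ev k) * wd φ u y * zp Y Z v

variable {φ : ThK83.Kbar →* G} {u : G}

theorem of_eq1 {x w y k : List ℕ} (h : Eq1 φ u x w y k) : Eqz φ u Y Z x w y k (0, 0) := by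
  unfold Eqz Eq1 at *
  simpa [zp] using h

theorem nil_z (x : List ℕ) : Eqz φ u Y Z x [] x [] (0, 0) := of_eq1 (nil_step x)

theorem def_z (x : List ℕ) (g : ℕ) : Eqz φ u Y Z x [g] (x ++ [g]) [] (0, 0) := of_eq1 (def_step x g)

theorem k_z {k w : List ℕ} (hk : ThK83.decode k = w) (h : ∀ l ∈ w, l < 5) :
    Eqz φ u Y Z [] w [] k (0, 0) := of_eq1 (k_step hk h)

theorem rel_z {r : List ℕ} (h : wd φ u r = 1) : wd φ u r = zp Y Z (0, 0) := by
  simpa [zp] using h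

theorem norm_z {x w y k k' : List ℕ} {v v' : ℤ × ℤ}
    (h : ThK83.tabs.same ThK83.base k k' = true) (hv : v = v')
    (h₁ : Eqz φ u Y Z x w y k v) : Eqz φ u Y Z x w y k' v' := by
  subst hv
  unfold Eqz at h₁ ⊢
  rwa [← ev_eq h]

include hC

theorem rot_z {r : List ℕ} {s : ℤ × ℤ} (h : wd φ u r = zp Y Z s) (i : ℕ) :
    wd φ u (r.drop i ++ r.take i) = zp Y Z s := by
  rw [wd_append]
  have e : wd φ u (r.take i) * wd φ u (r.drop i) = zp Y Z s := by
    rw [← wd_append, List.take_append_drop, h]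
  rw [eq_inv_mul_of_mul_eq e, mul_assoc, zp_comm hC, inv_mul_cancel_left]

theorem rot_inv_z {r : List ℕ} {s : ℤ × ℤ} (h : wd φ u r = zp Y Z s) (hl : ∀ l ∈ r, l < 7) (i : ℕ) :
    wd φ u ((winv r).drop i ++ (winv r).take i) = zp Y Z (-s) :=
  rot_z hC (by rw [wd_winv hl, h, zp_neg hC]) i

theorem cons_z {x w y k w' y' k' : List ℕ} {v v' : ℤ × ℤ} (h₁ : Eqz φ u Y Z x w y k v)
    (h₂ : Eqz φ u Y Z y w' y' k' v') : Eqz φ u Y Z x (w ++ w') y' (k ++ k') (v + v') := by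
  show _ = _
  unfold Eqz at h₁ h₂
  rw [wd_append, ← mul_assoc, h₁, ThK83.rep.ev_append, map_mul, add_comm, zp_add hC]
  calc φ (ThK83.rep.ev k) * wd φ u y * zp Y Z v * wd φ u w'
      = φ (ThK83.rep.ev k) * (wd φ u y * wd φ u w') * zp Y Z v := by
        rw [mul_assoc _ (zp Y Z v), zp_comm hC]; group
    _ = _ := by rw [h₂]; group

theorem rev_z {x w y k k' : List ℕ} {v v' : ℤ × ℤ} (hl : ∀ l ∈ w, l < 7)
    (h : ThK83.tabs.same ThK83.base (k' ++ k) [] = true) (hv : -v = v')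
    (h₁ : Eqz φ u Y Z x w y k v) : Eqz φ u Y Z y (winv w) x k' v' := by
  subst hv
  have e : φ (ThK83.rep.ev k') * φ (ThK83.rep.ev k) = 1 := by
    rw [← map_mul, ← ThK83.rep.ev_append, ev_eq h, ThK83.rep.ev_nil, map_one]
  unfold Eqz at h₁
  show _ = _
  rw [wd_winv hl, mul_inv_eq_iff_eq_mul, mul_assoc _ (zp Y Z (-v)), zp_comm hC, ← mul_assoc,
    mul_assoc (φ _), h₁, zp_neg hC]
  simp only [mul_assoc, mul_inv_cancel, mul_one]
  rw [← mul_assoc, e, one_mul]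

theorem ded_z {x p a k₁ q b k₂ m k : List ℕ} {v₁ v₂ s v : ℤ × ℤ} (hq : ∀ l ∈ q, l < 7)
    (hrel : wd φ u (p ++ (m ++ winv q)) = zp Y Z s)
    (h : ThK83.tabs.same ThK83.base (k₁ ++ k) k₂ = true) (hv : s + v₂ = v₁ + v)
    (h₁ : Eqz φ u Y Z x p a k₁ v₁) (h₂ : Eqz φ u Y Z x q b k₂ v₂) : Eqz φ u Y Z a m b k v := by
  rw [wd_append, wd_append, wd_winv hq, ← mul_assoc, mul_inv_eq_iff_eq_mul, zp_comm hC] at hrel
  unfold Eqz at h₁ h₂
  have e : wd φ u x * wd φ u p * wd φ u m = wd φ u x * wd φ u q * zp Y Z s := by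
    rw [mul_assoc, hrel, ← mul_assoc]
  rw [h₁, h₂, ← ev_eq h, ThK83.rep.ev_append, map_mul] at e
  show _ = _
  refine mul_left_cancel (a := φ (ThK83.rep.ev k₁)) (mul_right_cancel (b := zp Y Z v₁) ?_)
  calc φ (ThK83.rep.ev k₁) * (wd φ u a * wd φ u m) * zp Y Z v₁
      = φ (ThK83.rep.ev k₁) * wd φ u a * (wd φ u m * zp Y Z v₁) := by group
    _ = φ (ThK83.rep.ev k₁) * wd φ u a * zp Y Z v₁ * wd φ u m := by
      rw [← zp_comm hC v₁]; group
    _ = φ (ThK83.rep.ev k₁) * φ (ThK83.rep.ev k) * wd φ u b * zp Y Z (v₂ + s) := by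
      rw [e, mul_assoc _ (zp Y Z v₂), ← zp_add hC]
    _ = _ := by rw [add_comm, hv, add_comm, zp_add hC]; group

theorem join_z {x p a k₁ b k₂ k : List ℕ} {v₁ v₂ v : ℤ × ℤ}
    (h : ThK83.tabs.same ThK83.base (k₁ ++ k) k₂ = true) (hv : v₂ = v₁ + v)
    (h₁ : Eqz φ u Y Z x p a k₁ v₁) (h₂ : Eqz φ u Y Z x p b k₂ v₂) :
    Eqz φ u Y Z a [] b k v := by
  unfold Eqz at h₁ h₂
  rw [h₁, ← ev_eq h, ThK83.rep.ev_append, map_mul, hv, add_comm, zp_add hC] at h₂
  show wd φ u a * wd φ u [] = _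
  rw [wd_nil, mul_one]
  refine mul_left_cancel (a := φ (ThK83.rep.ev k₁)) (mul_right_cancel (b := zp Y Z v₁) (h₂.trans ?_))
  group

theorem move_z {a b j m k k₃ kk : List ℕ} {v v₃ vv : ℤ × ℤ}
    (h : ThK83.tabs.same ThK83.base (k ++ kk) k₃ = true) (hv : v₃ = v + vv)
    (h₁ : Eqz φ u Y Z a [] b k v) (h₂ : Eqz φ u Y Z a m j k₃ v₃) : Eqz φ u Y Z b m j kk vv := by
  unfold Eqz at h₁ h₂
  rw [wd_nil, mul_one] at h₁
  rw [h₁, ← ev_eq h, ThK83.rep.ev_append, map_mul, hv, add_comm, zp_add hC] at h₂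
  show _ = _
  refine mul_left_cancel (a := φ (ThK83.rep.ev k)) (mul_right_cancel (b := zp Y Z v) ?_)
  calc φ (ThK83.rep.ev k) * (wd φ u b * wd φ u m) * zp Y Z v
      = φ (ThK83.rep.ev k) * wd φ u b * (wd φ u m * zp Y Z v) := by group
    _ = φ (ThK83.rep.ev k) * wd φ u b * zp Y Z v * wd φ u m := by rw [← zp_comm hC v]; group
    _ = _ := by rw [h₂]; group

/-- a closed equation gives a relation between the central factors -/
theorem closed_z {x : List ℕ} {k : List ℕ} {v : ℤ × ℤ}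
    (h : ThK83.tabs.same ThK83.base k [] = true) (h₁ : Eqz φ u Y Z x [] x k v) :
    zp Y Z v = 1 := by
  unfold Eqz at h₁
  rw [ev_eq h, ThK83.rep.ev_nil, map_one, one_mul, wd_nil, mul_one, left_eq_mul] at h₁
  exact h₁

end Cfsg.Agent.Lib.ThMult97.Coset
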